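import Mathlib
import Cfsg.Agent.CpAut.RgdConj
import Cfsg.Agent.CpAut.RgdTwStd
import Cfsg.Agent.H818.StrP.Row_m3
import Cfsg.Agent.H571.SylowNumber
import Cfsg.Agent.S4145
import Cfsg.Agent.S1066
import Cfsg.Agent.S1070
import Cfsg.Agent.CpAut.RgdTwE6
import Cfsg.Agent.H522.FldSixLib
import Cfsg.Agent.FastGrp
import Cfsg.Agent.Prune
set_option linter.all false
prune_inst 0x7f00000000000000000000000000000000000000000000000000000000000000000000000000000000000000000000000000000000000000000000000000000000000000000000000000000000000000003fffffffffffffffffffffffffffbeffbdffffffff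
open scoped Cfsg.Agent.FastGrp

-- part: H640/FC/Rgd
section
/-!
# Fixed points of an automorphism of the frame fixing representatives of the simple reflections

Generalisation of `CpAut.RgdFix` (there `β` is a `p`-element, `p` the characteristic): `Y` a finite group with a root group
datum of characteristic `p`, `β` an automorphism of `Y` fixing all the root groups (`Diag T X β 1`) such that every
`⟨C_{X_{α_i}}(β), C_{X_{-α_i}}(β)⟩` contains a representative of the simple reflection (`HasFixRep`), e.g. `β n_i = n_i`.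

* `fix_U` : `C_U(β)` is the join of the `C_{X x}(β)`, `x > 0`;
* `exists_of_fix`, `DD_eq_simple`, `DD_normal`, `not_dvd_index` : `C_Y(β) = DD C_T(β)`, `DD` the join of the `C_{X x}(β)`;
* `hasFixRep_of_std`, `DD_le'` : automorphisms `Φ_i(up a) ↦ Φ_i(up (τ_i a))`, `n_i ↦ n_i`.
-/

set_option autoImplicit false
set_option linter.unusedSectionVars false

namespace Cfsg.Agent.H640.FC.Rgd

open CoxeterSystem Cfsg.Agent.ChevalleyStructure.CoxeterGeom Cfsg.Agent.Tits.Roots Cfsg.Agent.Tits.Core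
  Cfsg.Agent.Tits.Exchange Cfsg.Agent.Nodes.Reps Cfsg.Agent.Nodes.BNOf Cfsg.Agent.Nodes.StabComb
  Cfsg.Agent.Nodes.Bruhat Cfsg.Agent.Nodes.OppDec Cfsg.Agent.Nodes.LeviDec Cfsg.Agent.Nodes.NormalForm
  Cfsg.Agent.KFacts.RgdOpp Cfsg.Agent.KFacts.RgdAut Cfsg.Agent.KFacts.RgdDiag Cfsg.Agent.KFacts.RgdRigid
  Cfsg.Agent.KFacts.RgdField
open Cfsg.Agent.CpAut.RgdFix (mem_fix XF mem_XF DD XF_le_DD DD_le_fix fix_Sup fix_X fix_rp sr_mem_NW fix_form
  sup_XF_le_fix tor_normalizes)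
open scoped commutatorElement

variable {I W Y : Type*} [Fintype I] [DecidableEq I] [Group W] [Group Y] {M : CoxeterMatrix I}
  {cs : CoxeterSystem M W} {A : I → I → ℤ} {h : IsCartan M A} {p : ℕ} {T : Subgroup Y} {n : I → Y}
  {X : (I → ℤ) → Subgroup Y}

section

variable (R : RGD cs h p T n X)

/-- every `⟨C_{X_{α_i}}(β), C_{X_{-α_i}}(β)⟩` contains a representative of the simple reflection -/
def HasFixRep (β : MulAut Y) : Prop :=
  ∀ i, ∃ k ∈ XF X β (sr i) ⊔ XF X β (-sr i), Rp cs R.nsys (cs.simple i) k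

include R

/-- **`C_U(β)`**, more generally the fixed points on the groups `Sup X (PW w)`. -/
theorem fix_PW [Finite W] [Finite Y] [Fact p.Prime] {β : MulAut Y} (D : Diag T X β 1) 
    (hfx : HasFixRep R β) : ∀ (w : W) {a : Y}, a ∈ RGD.Sup X (PW cs h w) → β a = a →
    a ∈ RGD.Sup (XF X β) (PW cs h w) := by
  intro w
  induction hn : cs.length (w0 cs) - cs.length w using Nat.strong_induction_on generalizing w with
  | _ N ih =>
  intro a ha hc
  by_cases hw0 : w = w0 cs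
  · subst hw0
    rw [PW_w0, Sup_empty, Subgroup.mem_bot] at ha
    rw [ha]; exact one_mem _
  obtain ⟨i, hi⟩ : ∃ i, cs.length w < cs.length (w * cs.simple i) := by
    by_contra hcon
    push Not at hcon
    apply hw0
    have h1 : w * w0 cs = 1 := by
      refine eq_one_of_nonneg cs h _ fun j => ?_
      change 0 ≤ rep cs h (w * w0 cs) (sr j)
      rw [rep_mul_apply]
      have h3 : ∀ x, IsRoot cs h x → 0 ≤ x → rep cs h w x ≤ 0 := by
        intro x hx h0
        have h4 : ∀ j, rep cs h w (sr j) ≤ 0 := fun j =>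
          nonpos_of_lt cs h w j (lt_of_le_of_ne (hcon j) (cs.length_mul_simple_ne w j))
        have h5 : x = ∑ k, x k • sr k := by
          funext k
          rw [Finset.sum_apply, Finset.sum_eq_single k (fun b _ hb => by
            rw [Pi.smul_apply, sr_ne hb.symm, smul_zero]) (by simp only [_root_.Finset.mem_univ, _root_.not_true_eq_false, _root_.Pi.smul_apply, _root_.Int.zsmul_eq_mul, _root_.mul_eq_zero, _root_.IsEmpty.forall_iff]), Pi.smul_apply, sr_self, smul_eq_mul,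
            mul_one]
        rw [h5, map_sum]
        refine Finset.sum_nonpos fun k _ => ?_
        rw [map_smul]
        exact smul_nonpos_of_nonneg_of_nonpos (h0 k) (h4 k)
      have h6 := h3 (-rep cs h (w0 cs) (sr j)) ((isRoot_sr cs h j).act _).neg
        (neg_nonneg.2 (rep_w0_nonpos (isRoot_sr cs h j) (sr_nonneg j)))
      rw [map_neg] at h6
      exact neg_nonpos.1 h6
    have h2 : w = (w0 cs)⁻¹ := eq_inv_of_mul_eq_one_left h1
    rw [h2, w0_inv]
  have hpos : 0 ≤ rep cs h w (sr i) := (lt_iff' cs h w i).1 hi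
  obtain ⟨r, hr, u, hu, rfl⟩ := exists_mul_PW R hpos ha
  have hfxr : β r ∈ RGD.Sup X (PW cs h w \ {sr i}) := (fix_Sup (fun x hx => fix_X R D hx.1.1) r).2 hr
  have hfxu : β u ∈ X (sr i) := (fix_X R D (isRoot_sr cs h i) u).2 hu
  have hmono : RGD.Sup X (PW cs h w \ {sr i}) ≤ RGD.Sup X (RGD.PosNe cs h i) :=
    RGD.Sup_mono fun x hx => ⟨hx.1.1, hx.1.2.1, hx.2⟩
  have h5 : u * (β u)⁻¹ = 1 := by
    refine eq_one_of_mem_PosNe R (mul_mem hu (inv_mem hfxu)) ?_
    have h4 : u * (β u)⁻¹ = r⁻¹ * β r := by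
      rw [map_mul] at hc
      rw [mul_inv_eq_iff_eq_mul, mul_assoc, hc]; group
    rw [h4]
    exact hmono (mul_mem (inv_mem hr) hfxr)
  have huf : β u = u := (mul_inv_eq_one.1 h5).symm
  have hrf : β r = r := by
    rw [map_mul, huf] at hc
    exact mul_right_cancel hc
  refine mul_mem ?_ (RGD.le_Sup (X := XF X β) (S := PW cs h w)
    ⟨isRoot_sr cs h i, sr_nonneg i, hpos⟩ (mem_XF.2 ⟨hu, huf⟩))
  set w' := w * cs.simple i with hw'
  have hlen : cs.length (w0 cs) - cs.length w' < N := by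
    have h1 := length_le_w0 cs w'
    omega
  obtain ⟨k, hkD, hk⟩ := hfx i
  have hkf : β k = k := sup_XF_le_fix R hkD
  have hws : ∀ x : I → ℤ, rep cs h w' (rep cs h (cs.simple i) x) = rep cs h w x := by
    intro x
    rw [← rep_mul_apply, hw', mul_assoc, simple_mul_simple_self, mul_one]
  have h1 : k⁻¹ * r * k ∈ RGD.Sup X (PW cs h w') := by
    refine conj_mem_Sup' R hk (fun x hx => hx.1.1) (fun x hx => ?_) hr
    rw [inv_simple]
    exact ⟨hx.1.1.act _, hx.1.1.simple_nonneg hx.1.2.1 i hx.2, by rw [hws]; exact hx.1.2.2⟩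
  have h3 := ih _ hlen w' rfl h1 (by rw [map_mul, map_mul, map_inv, hkf, hrf])
  have h4 : cj k (RGD.Sup (XF X β) (PW cs h w')) ≤ RGD.Sup (XF X β) (PW cs h w) := by
    rw [RGD.cj_Sup]
    refine iSup_le ?_
    rintro ⟨x, hx⟩
    have hx' : rep cs h (cs.simple i) x ∈ PW cs h w := by
      have hne : x ≠ sr i := by
        rintro rfl
        have h5 := hx.2.2
        rw [hw', rep_mul_apply, rep_simple_sr, map_neg] at h5
        exact ((isRoot_sr cs h i).act w).not_pos_neg hpos (neg_nonneg.1 h5)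
      exact ⟨hx.1.act _, hx.1.simple_nonneg hx.2.1 i hne, by rw [← rep_mul_apply]; exact hx.2.2⟩
    refine le_trans ?_ (RGD.le_Sup (X := XF X β) hx')
    intro y hy
    rw [mem_cj, mem_XF] at hy
    rw [mem_XF]
    refine ⟨?_, ?_⟩
    · have h5 := R.conj_mem hk hx.1 hy.1
      have e1 : k * (k⁻¹ * y * k) * k⁻¹ = y := by group
      rwa [e1] at h5
    · have h5 := hy.2
      rw [map_mul, map_mul, map_inv, hkf] at h5
      exact mul_left_cancel (mul_right_cancel h5)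
  have h5 := h4 (conj_mem_cj.2 h3)
  have e1 : k * (k⁻¹ * r * k) * k⁻¹ = r := by group
  rwa [e1] at h5

/-- **`C_U(β)` is the join of the `C_{X x}(β)`.** -/
theorem fix_U [Finite W] [Finite Y] [Fact p.Prime] {β : MulAut Y} (D : Diag T X β 1) 
    (hfx : HasFixRep R β) {a : Y} (ha : a ∈ RGD.Sup X (RGD.Pos cs h)) (hf : β a = a) :
    a ∈ RGD.Sup (XF X β) (RGD.Pos cs h) := by
  rw [← PW_one_eq] at ha ⊢
  exact fix_PW R D hfx 1 ha hf

/-- the join of the groups `C_{X_{±α_i}}(β)` -/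
theorem exists_rp_simple [Finite W] [Finite Y] [Fact p.Prime] {β : MulAut Y} (D : Diag T X β 1) 
    (hfx : HasFixRep R β) (w : W) :
    ∃ k ∈ ⨆ i, (XF X β (sr i) ⊔ XF X β (-sr i)), Rp cs R.nsys w k := by
  obtain ⟨ω, rfl⟩ := cs.wordProd_surjective w
  induction ω with
  | nil => exact ⟨1, one_mem _, by rw [wordProd_nil]; exact rp_one⟩
  | cons i ω ih =>
    obtain ⟨k, hk, hk'⟩ := ih
    obtain ⟨l, hl, hl'⟩ := hfx i
    refine ⟨l * k, mul_mem (Subgroup.mem_iSup_of_mem i hl) hk, ?_⟩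
    rw [wordProd_cons]
    exact hl'.mul hk'

theorem DD_eq_simple [Finite W] [Finite Y] [Fact p.Prime] {β : MulAut Y} (D : Diag T X β 1) 
    (hfx : HasFixRep R β) : DD cs h X β = ⨆ i, (XF X β (sr i) ⊔ XF X β (-sr i)) := by
  apply le_antisymm
  · refine RGD.Sup_le ?_
    rintro x ⟨w, i, rfl⟩ y hy
    obtain ⟨k, hk, hk'⟩ := exists_rp_simple R D hfx w
    have hkf : β k = k := (iSup_le fun i => sup_XF_le_fix R : (⨆ i, (XF X β (sr i) ⊔ XF X β (-sr i))) ≤ _) hk
    rw [mem_XF] at hy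
    have h1 : k⁻¹ * y * k ∈ XF X β (sr i) := by
      rw [mem_XF]
      refine ⟨?_, by rw [map_mul, map_mul, map_inv, hkf, hy.2]⟩
      have h2 := R.conj_mem' hk' ⟨w, i, rfl⟩ hy.1
      rwa [rep_inv_apply] at h2
    have e : y = k * (k⁻¹ * y * k) * k⁻¹ := by group
    rw [e]
    exact mul_mem (mul_mem hk (Subgroup.mem_iSup_of_mem i (Subgroup.mem_sup_left h1))) (inv_mem hk)
  · exact iSup_le fun i => sup_le (XF_le_DD (isRoot_sr cs h i)) (XF_le_DD (isRoot_sr cs h i).neg)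

theorem exists_rp_DD [Finite W] [Finite Y] [Fact p.Prime] {β : MulAut Y} (D : Diag T X β 1) 
    (hfx : HasFixRep R β) (w : W) : ∃ k ∈ DD cs h X β, Rp cs R.nsys w k := by
  rw [DD_eq_simple R D hfx]
  exact exists_rp_simple R D hfx w

/-- **The fixed points of `β`.** -/
theorem exists_of_fix [Finite W] [Finite Y] [Fact p.Prime] {β : MulAut Y} (D : Diag T X β 1) 
    (hfx : HasFixRep R β) {g : Y} (hg : g ∈ GG cs h T X) (hf : β g = g) :
    ∃ d ∈ DD cs h X β, ∃ t ∈ T, β t = t ∧ g = d * t := by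
  obtain ⟨w, hw⟩ := (mem_GG R).1 hg
  obtain ⟨u, hu, k, hk, v, hv, rfl⟩ := exists_normal_form R hw
  obtain ⟨h1, h2, h3⟩ := fix_form R D hu hk hv hf
  obtain ⟨l, hl, hl'⟩ := exists_rp_DD R D hfx w
  have hlf : β l = l := DD_le_fix hl
  have hle : RGD.Sup (XF X β) (RGD.Pos cs h) ≤ DD cs h X β := RGD.Sup_le fun x hx => XF_le_DD hx.1
  have hv' : v ∈ RGD.Sup X (RGD.Pos cs h) :=
    RGD.Sup_mono (S := NW cs h w) (S' := RGD.Pos cs h) (fun x hx => ⟨hx.1, hx.2.1⟩) hv
  have hlk : l⁻¹ * k ∈ T := hl'.unique hk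
  obtain ⟨t, ht⟩ : ∃ t, t = l⁻¹ * k := ⟨_, rfl⟩
  rw [← ht] at hlk
  have htf : β t = t := by rw [ht, map_mul, map_inv, hlf, h2]
  have hkt : k = l * t := by rw [ht]; group
  -- `t v t⁻¹`
  have h4 : t * v * t⁻¹ ∈ RGD.Sup (XF X β) (RGD.Pos cs h) := by
    apply fix_U R D hfx
    · exact (Subgroup.mem_normalizer_iff.1 (R.T_le_normalizer_U hlk) v).1 hv'
    · rw [map_mul, map_mul, map_inv, htf, h3]
  refine ⟨u * l * (t * v * t⁻¹), mul_mem (mul_mem (hle (fix_U R D hfx hu h1)) hl) (hle h4), t, hlk, htf, ?_⟩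
  rw [hkt]; group

theorem fix_le_normalizer [Finite W] [Finite Y] [Fact p.Prime] (hG : GG cs h T X = ⊤) {β : MulAut Y}
    (D : Diag T X β 1) (hfx : HasFixRep R β) :
    fixedSubgroup β ≤ Subgroup.normalizer (DD cs h X β : Set Y) := by
  intro g hg
  obtain ⟨d, hd, t, ht, htf, rfl⟩ := exists_of_fix R D hfx (g := g) (by rw [hG]; exact Subgroup.mem_top _) hg
  exact mul_mem (Subgroup.le_normalizer hd) (tor_normalizes R ht htf)

/-- **`DD` is normal in the fixed point group.** -/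
theorem DD_normal [Finite W] [Finite Y] [Fact p.Prime] (hG : GG cs h T X = ⊤) {β : MulAut Y}
    (D : Diag T X β 1) (hfx : HasFixRep R β) :
    ((DD cs h X β).subgroupOf (fixedSubgroup β)).Normal :=
  Subgroup.normal_subgroupOf_of_le_normalizer (fix_le_normalizer R hG D hfx)

/-- **`DD` has index prime to `p` in the fixed point group.** -/
theorem not_dvd_index [Finite W] [Finite Y] [hp : Fact p.Prime] (hG : GG cs h T X = ⊤) {β : MulAut Y}
    (D : Diag T X β 1) (hfx : HasFixRep R β) :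
    ¬ p ∣ ((DD cs h X β).subgroupOf (fixedSubgroup β)).index := by
  have hN := DD_normal R hG D hfx
  intro hd
  rw [Subgroup.index_eq_card] at hd
  obtain ⟨x, hx⟩ := exists_prime_orderOf_dvd_card' p hd
  obtain ⟨g, rfl⟩ := QuotientGroup.mk_surjective x
  obtain ⟨d, hd, t, ht, htf, e⟩ := exists_of_fix R D hfx (g := (g : Y)) (by rw [hG]; exact Subgroup.mem_top _) g.2
  have htm : t ∈ fixedSubgroup β := htf
  have h1 : (QuotientGroup.mk g : ↥(fixedSubgroup β) ⧸ (DD cs h X β).subgroupOf (fixedSubgroup β)) =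
      QuotientGroup.mk ⟨t, htm⟩ := by
    have h2 : g = ⟨d, DD_le_fix hd⟩ * ⟨t, htm⟩ := Subtype.ext e
    have h3 : (QuotientGroup.mk ⟨d, DD_le_fix hd⟩ : ↥(fixedSubgroup β) ⧸
        (DD cs h X β).subgroupOf (fixedSubgroup β)) = 1 := (QuotientGroup.eq_one_iff _).2 hd
    rw [h2, QuotientGroup.mk_mul, h3, one_mul]
  rw [h1] at hx
  have h2 : orderOf (QuotientGroup.mk ⟨t, htm⟩ : ↥(fixedSubgroup β) ⧸ (DD cs h X β).subgroupOf (fixedSubgroup β)) ∣
      Nat.card T := by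
    apply orderOf_dvd_of_pow_eq_one
    rw [← QuotientGroup.mk_pow]
    have h4 : t ^ Nat.card T = 1 := by
      have := congrArg Subtype.val (pow_card_eq_one' (x := (⟨t, ht⟩ : ↥T)))
      rwa [SubmonoidClass.coe_pow] at this
    have h3 : (⟨t, htm⟩ : ↥(fixedSubgroup β)) ^ Nat.card T = 1 := by
      apply Subtype.ext
      rw [SubmonoidClass.coe_pow]
      exact h4
    rw [h3, QuotientGroup.mk_one]
  rw [hx] at h2
  have h3 := R.tcop
  exact hp.out.one_lt.ne' (Nat.eq_one_of_dvd_coprimes h3.symm (dvd_refl p) h2)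

end

/-! ### abstract rank one homomorphisms -/

section Abs

open Cfsg.Agent.Nodes.RGDFoldSL Cfsg.Agent.ChevalleyStructure.SL2Hom Cfsg.Agent.CpAut.RgdTwStd
  Cfsg.Agent.KFacts.RgdTau Cfsg.Agent.KFacts.RgdNodes

universe v

variable {K : I → Type v} [∀ i, Field (K i)] {χ : ∀ i, Y → K i}
  {Φ : ∀ i, Matrix.SpecialLinearGroup (Fin 2) (K i) →* Y}

variable (R : RGD cs h p T n X) (hX : ∀ i g, g ∈ X (sr i) ↔ ∃ a, g = Φ i (up a)) (hw : ∀ i, Φ i (wS 1) = n i)
  {φ : MulAut Y} {τ : ∀ i, K i ≃+* K i} (hφ : ∀ i a, φ (Φ i (up a)) = Φ i (up (τ i a)))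
  (hn : ∀ i, φ (n i) = n i)

include R hX hw hφ hn

theorem hasFixRep_of_std : HasFixRep R φ := by
  intro i
  refine ⟨n i, ?_, rp_simple cs R.nsys i⟩
  have h1 : Φ i (up 1) ∈ XF X φ (sr i) := mem_XF.2 ⟨(hX i _).2 ⟨1, rfl⟩, by rw [hφ, map_one]⟩
  have h2 : Φ i (lo (-1⁻¹)) ∈ XF X φ (-sr i) :=
    mem_XF.2 ⟨(mem_neg R hX hw i _).2 ⟨_, rfl⟩, by rw [apply_lo hw hφ hn, map_neg, map_inv₀, map_one]⟩
  have h3 : n i = Φ i (up 1) * (Φ i (lo (-1⁻¹)) * Φ i (up 1)) := by
    rw [← hw]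
    unfold wS
    rw [map_mul, map_mul]
  rw [h3]
  exact mul_mem (Subgroup.mem_sup_left h1) (mul_mem (Subgroup.mem_sup_right h2) (Subgroup.mem_sup_left h1))

theorem DD_le' [Finite W] [Finite Y] [Fact p.Prime] (C : ∀ i, Coord T (X (sr i)) (fun a => Φ i (up a)) (χ i))
    (D : Diag T X φ 1) {S : Subgroup Y}
    (h1 : ∀ i a, τ i a = a → Φ i (up a) ∈ S) (h2 : ∀ i a, τ i a = a → Φ i (lo a) ∈ S) : DD cs h X φ ≤ S := by
  rw [DD_eq_simple R D (hasFixRep_of_std R hX hw hφ hn)]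
  refine iSup_le fun i => sup_le ?_ ?_
  · intro y hy
    obtain ⟨h3, h4⟩ := mem_XF.1 hy
    obtain ⟨a, rfl⟩ := (hX i _).1 h3
    rw [hφ] at h4
    exact h1 i a ((C i).inj h4)
  · intro y hy
    obtain ⟨h3, h4⟩ := mem_XF.1 hy
    obtain ⟨a, rfl⟩ := (mem_neg R hX hw i _).1 h3
    rw [apply_lo hw hφ hn] at h4
    refine h2 i a ?_
    rw [lo_eq, lo_eq, map_mul, map_mul, map_inv, map_mul, map_mul, map_inv] at h4
    have h5 := (C i).inj (mul_left_cancel (mul_right_cancel h4))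
    exact neg_injective h5

end Abs

end Cfsg.Agent.H640.FC.Rgd
end

-- part: H640/FC/Conj
section
/-!
# Automorphisms of order `p` of a group with cyclic Sylow `p`-subgroups

`Y` a finite group with trivial centre and cyclic Sylow `p`-subgroups, `p` odd.

* `conj_of_coset` : if `τ ∈ Aut(Y)`, `τ ^ p = 1`, and `|C_Y(τ)|_p < |Y|_p`, then every element of order `p` of the coset
  `Inn(Y) τ` is conjugate to `τ`;
* `Good` : the conclusion of `FieldCent` for one automorphism; `Good.conj`, `FieldCent.congr`;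
* `fieldCent_of` : reduction of `FieldCent` to standard automorphisms.
-/

set_option autoImplicit false

namespace Cfsg.Agent.H640.FC

open Cfsg Subgroup Cfsg.Agent.H818.StrP
open scoped Pointwise

/-! ### the arithmetic -/

/-- `1 + u + … + u ^ (p - 1) ≡ p mod p ^ 2` if `u ≡ 1 mod p`, `p` odd. -/
theorem geom_modEq {p : ℕ} (hp : p.Prime) (hp2 : p ≠ 2) {u : ℕ} (hu : u ≡ 1 [MOD p]) :
    ∃ c : ℕ, ∑ i ∈ Finset.range p, u ^ i = p * (1 + p * c) ∨ ∃ c : ℤ, (∑ i ∈ Finset.range p, (u : ℤ) ^ i) = p * (1 + p * c) := by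
  obtain ⟨d, hd⟩ : (p : ℤ) ∣ (u : ℤ) - 1 := by
    have h1 := (Nat.modEq_iff_dvd.1 hu.symm)
    simpa using h1
  have hu' : (u : ℤ) = 1 + p * d := by linarith
  have key : ∀ i : ℕ, ∃ e : ℤ, (u : ℤ) ^ i = 1 + i * (p * d) + p ^ 2 * e := by
    intro i
    induction i with
    | zero => exact ⟨0, by simp⟩
    | succ i ih =>
      obtain ⟨e, he⟩ := ih
      refine ⟨e + i * d ^ 2 + p * e * d, ?_⟩
      rw [pow_succ, he, hu']
      push_cast
      ring
  choose e he using key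
  obtain ⟨j, hj⟩ := hp.odd_of_ne_two hp2
  refine ⟨0, Or.inr ⟨j * d + ∑ i ∈ Finset.range p, e i, ?_⟩⟩
  have h1 : (∑ i ∈ Finset.range p, (u : ℤ) ^ i) =
      ∑ i ∈ Finset.range p, (1 : ℤ) + (∑ i ∈ Finset.range p, (i : ℤ)) * (p * d) + p ^ 2 * ∑ i ∈ Finset.range p, e i := by
    rw [Finset.sum_mul, Finset.mul_sum, ← Finset.sum_add_distrib, ← Finset.sum_add_distrib]
    exact Finset.sum_congr rfl fun i _ => he i
  have h2 : (∑ i ∈ Finset.range p, (i : ℤ)) = p * j := by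
    have h3 := Finset.sum_range_id_mul_two p
    have h4 : (∑ i ∈ Finset.range p, (i : ℤ)) * 2 = p * j * 2 := by
      have h5 : ((∑ i ∈ Finset.range p, i : ℕ) : ℤ) * 2 = (p : ℤ) * ((p - 1 : ℕ) : ℤ) := by exact_mod_cast h3
      have h6 : ((p - 1 : ℕ) : ℤ) = 2 * j := by
        have : p - 1 = 2 * j := by omega
        rw [this]; push_cast; ring
      rw [h6] at h5
      push_cast at h5
      linarith only [h5]
    linarith only [h4]
  rw [h1, h2]
  simp only [Finset.sum_const, Finset.card_range, nsmul_eq_mul, mul_one]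
  ring

/-- `p ^ a ∣ k (1 + u + … + u ^ (p - 1))` implies `p ^ a ∣ k p`. -/
theorem dvd_of_dvd_geom {p : ℕ} (hp : p.Prime) (hp2 : p ≠ 2) {u : ℕ} (hu : u ≡ 1 [MOD p]) {a k : ℕ}
    (h : p ^ a ∣ k * ∑ i ∈ Finset.range p, u ^ i) : p ^ a ∣ k * p := by
  have hZ : ∃ c : ℤ, (∑ i ∈ Finset.range p, (u : ℤ) ^ i) = p * (1 + p * c) := by
    obtain ⟨c, hc | hc⟩ := geom_modEq hp hp2 hu
    · refine ⟨c, ?_⟩
      have := congrArg (fun n : ℕ => (n : ℤ)) hc
      push_cast at this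
      exact this
    · exact hc
  obtain ⟨c, hc⟩ := hZ
  have h1 : ((p : ℤ) ^ a) ∣ (k * p) * (1 + p * c) := by
    have h2 : ((p ^ a : ℕ) : ℤ) ∣ ((k * ∑ i ∈ Finset.range p, u ^ i : ℕ) : ℤ) := Int.natCast_dvd_natCast.2 h
    push_cast at h2
    rw [hc] at h2
    rwa [mul_assoc]
  have hcop : IsCoprime ((p : ℤ) ^ a) (1 + p * c) := by
    apply IsCoprime.pow_left
    exact ⟨-c, 1, by ring⟩
  have h3 := hcop.dvd_of_dvd_mul_right h1
  exact_mod_cast h3

/-! ### a cyclic `p`-group with an automorphism of order `p` -/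

/-- the coset of a cyclic `p`-group -/
theorem conj_of_cyclic {Γ : Type*} [Group Γ] {p : ℕ} [hpf : Fact p.Prime] (hp2 : p ≠ 2) {P : Subgroup Γ} [Finite ↥P]
    (hP : IsPGroup p ↥P) (hc : IsCyclic ↥P) {t : Γ} (ht : t ^ p = 1) (hn : ∀ k ∈ P, t * k * t⁻¹ ∈ P)
    (hnc : ∃ k ∈ P, t * k * t⁻¹ ≠ k) {y : Γ} (hy : y ∈ P) (hyt : (y * t) ^ p = 1) :
    ∃ k ∈ P, y * t = k * t * k⁻¹ := by
  have hp : p.Prime := hpf.out
  obtain ⟨g, hg⟩ := hc.exists_zpow_surjective
  obtain ⟨a, ha⟩ := IsPGroup.iff_card.1 hP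
  have hord : orderOf g = p ^ a := by
    rw [← ha]
    exact orderOf_eq_card_of_forall_mem_zpowers hg
  have hpow : ∀ k ∈ P, ∃ m : ℕ, k = (g : Γ) ^ m := by
    intro k hk
    obtain ⟨z, hz⟩ := hg ⟨k, hk⟩
    have h1 : (⟨k, hk⟩ : ↥P) ∈ Submonoid.powers g := by
      rw [mem_powers_iff_mem_zpowers]
      exact ⟨z, hz⟩
    obtain ⟨m, hm⟩ := h1
    refine ⟨m, ?_⟩
    have := congrArg Subtype.val hm
    simpa using this.symm
  have hgP : (g : Γ) ∈ P := g.2
  have hgo : orderOf (g : Γ) = p ^ a := by rw [Subgroup.orderOf_coe, hord]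
  obtain ⟨u, hu⟩ := hpow _ (hn g hgP)
  have hconj : ∀ m : ℕ, t * (g : Γ) ^ m * t⁻¹ = (g : Γ) ^ (u * m) := by
    intro m
    rw [pow_mul, ← hu, ← MulAut.conj_apply, ← MulAut.conj_apply, map_pow]
  have hiter : ∀ i : ℕ, t ^ i * (g : Γ) * (t ^ i)⁻¹ = (g : Γ) ^ (u ^ i) := by
    intro i
    induction i with
    | zero => simp
    | succ i ih =>
      have e : t ^ (i + 1) * (g : Γ) * (t ^ (i + 1))⁻¹ = t * (t ^ i * (g : Γ) * (t ^ i)⁻¹) * t⁻¹ := by
        rw [pow_succ' t i]; group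
      rw [e, ih, hconj, pow_succ' u i]
  -- `a ≠ 0`
  have ha0 : a ≠ 0 := by
    rintro rfl
    obtain ⟨k, hk, hk'⟩ := hnc
    rw [pow_zero, orderOf_eq_one_iff] at hgo
    obtain ⟨m, rfl⟩ := hpow k hk
    rw [hgo, one_pow, mul_one, mul_inv_cancel] at hk'
    exact hk' rfl
  have hup : u ^ p ≡ 1 [MOD p ^ a] := by
    have h1 := hiter p
    rw [ht, inv_one, one_mul, mul_one] at h1
    rw [← hgo]
    have h2 : (g : Γ) ^ (u ^ p) = (g : Γ) ^ 1 := by rw [← h1, pow_one]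
    exact pow_eq_pow_iff_modEq.1 h2
  have hu1 : u ≡ 1 [MOD p] := by
    have h1 : u ^ p ≡ 1 [MOD p] := hup.of_dvd (dvd_pow_self p ha0)
    have h2 : (u : ZMod p) ^ p = 1 := by
      have := (ZMod.natCast_eq_natCast_iff _ _ _).2 h1
      simpa only [_root_.ZMod.pow_card, _root_.Nat.cast_pow, _root_.Nat.cast_one] using this
    rw [ZMod.pow_card] at h2
    exact (ZMod.natCast_eq_natCast_iff _ _ _).1 (by simpa only [_root_.Nat.cast_one] using h2)
  -- the norm of `y`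
  obtain ⟨k, rfl⟩ := hpow y hy
  have hnorm : ∀ i : ℕ, ((g : Γ) ^ k * t) ^ i = (g : Γ) ^ (k * ∑ j ∈ Finset.range i, u ^ j) * t ^ i := by
    intro i
    induction i with
    | zero => simp
    | succ i ih =>
      rw [pow_succ, ih, Finset.sum_range_succ, mul_add, pow_add, pow_succ t i]
      have h1 : t ^ i * (g : Γ) ^ k = (g : Γ) ^ (k * u ^ i) * t ^ i := by
        have h2 : t ^ i * (g : Γ) ^ k * (t ^ i)⁻¹ = (g : Γ) ^ (k * u ^ i) := by
          rw [mul_comm k, pow_mul, ← hiter, ← MulAut.conj_apply, ← MulAut.conj_apply, map_pow]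
        rw [← h2]; group
      calc (g : Γ) ^ (k * ∑ j ∈ Finset.range i, u ^ j) * t ^ i * ((g : Γ) ^ k * t)
          = (g : Γ) ^ (k * ∑ j ∈ Finset.range i, u ^ j) * (t ^ i * (g : Γ) ^ k) * t := by group
        _ = _ := by rw [h1]; group
  have hyp : (g : Γ) ^ (k * p) = 1 := by
    have h1 := hnorm p
    rw [hyt, ht, mul_one] at h1
    have h2 : p ^ a ∣ k * ∑ j ∈ Finset.range p, u ^ j := by
      rw [← hgo]
      exact orderOf_dvd_of_pow_eq_one h1.symm
    have h3 := dvd_of_dvd_geom hp hp2 hu1 h2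
    rw [← hgo] at h3
    exact orderOf_dvd_iff_pow_eq_one.1 h3
  -- `[P, t]`
  obtain ⟨c, hc1⟩ : ∃ c : ℤ, (g : Γ) * (t * (g : Γ) * t⁻¹)⁻¹ = (g : Γ) ^ c := ⟨1 - u, by rw [hu, zpow_sub, zpow_one, zpow_natCast]⟩
  have hcne : (g : Γ) ^ c ≠ 1 := by
    intro h1
    obtain ⟨k', hk', hne⟩ := hnc
    obtain ⟨m, rfl⟩ := hpow k' hk'
    apply hne
    have h2 : t * (g : Γ) * t⁻¹ = g := by
      rw [← hc1] at h1
      exact (mul_inv_eq_one.1 h1).symm
    rw [← MulAut.conj_apply, map_pow, MulAut.conj_apply, h2]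
  -- `Ω₁(P) ≤ ⟨g ^ c⟩`
  have hmem : (g : Γ) ^ k ∈ zpowers ((g : Γ) ^ c) := by
    have hka : p ^ a ∣ k * p := by
      rw [← hgo]
      exact orderOf_dvd_of_pow_eq_one hyp
    have hka' : p ^ (a - 1) ∣ k := by
      obtain ⟨a', rfl⟩ := Nat.exists_eq_succ_of_ne_zero ha0
      rw [Nat.succ_sub_one]
      rw [Nat.succ_eq_add_one, pow_succ] at hka
      exact Nat.dvd_of_mul_dvd_mul_right hp.pos hka
    have hca : ¬ ((p ^ a : ℕ) : ℤ) ∣ c := by
      intro h1
      apply hcne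
      rw [← hgo] at h1
      exact orderOf_dvd_iff_zpow_eq_one.1 h1
    have hd : Int.gcd c ((p ^ a : ℕ) : ℤ) ∣ k := by
      have h1 : Int.gcd c ((p ^ a : ℕ) : ℤ) ∣ p ^ a := by
        have := Int.gcd_dvd_natAbs_right c ((p ^ a : ℕ) : ℤ)
        simpa only [_root_.Nat.cast_pow, _root_.Int.natAbs_pow, _root_.Int.natAbs_natCast] using this
      obtain ⟨j, hj, hj'⟩ := (Nat.dvd_prime_pow hp).1 h1
      rw [hj']
      refine (pow_dvd_pow p ?_).trans hka'
      have : j ≠ a := by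
        rintro rfl
        apply hca
        rw [← hj']
        exact Int.gcd_dvd_left _ _
      omega
    obtain ⟨x, y, hxy⟩ := Int.gcd_dvd_iff.1 hd
    refine ⟨x, ?_⟩
    show ((g : Γ) ^ c) ^ x = _
    rw [← zpow_natCast (g : Γ) k, hxy, zpow_add, zpow_mul, zpow_mul]
    have : (g : Γ) ^ ((p ^ a : ℕ) : ℤ) = 1 := by rw [zpow_natCast, ← hgo, pow_orderOf_eq_one]
    rw [this, one_zpow, mul_one]
  obtain ⟨z, hz⟩ := hmem
  refine ⟨(g : Γ) ^ z, zpow_mem hgP z, ?_⟩
  have h1 : (g : Γ) ^ z * (t * (g : Γ) ^ z * t⁻¹)⁻¹ = (g : Γ) ^ k := by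
    have h2 : t * (g : Γ) ^ z * t⁻¹ = (t * (g : Γ) * t⁻¹) ^ z := by
      rw [← MulAut.conj_apply, ← MulAut.conj_apply, map_zpow]
    rw [h2, ← hz]
    show _ = ((g : Γ) ^ c) ^ z
    rw [← hc1, ← inv_zpow, (show Commute (g : Γ) (t * (g : Γ) * t⁻¹)⁻¹ from ?_).mul_zpow]
    rw [hu]
    exact ((Commute.refl (g : Γ)).pow_right u).inv_right
  rw [← h1]
  group

/-! ### the conjugacy theorem -/

theorem center_of_simple {Y : Type*} [Group Y] (hs : IsSimpleGroup Y) (hna : ¬ IsMulCommutative Y) : center Y = ⊥ := by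
  rcases (inferInstance : (center Y).Normal).eq_bot_or_eq_top with h | h
  · exact h
  · exfalso
    apply hna
    refine ⟨⟨fun a b => ?_⟩⟩
    have : b ∈ center Y := by rw [h]; exact mem_top b
    exact (mem_center_iff.1 this a)

theorem conj_injective {Y : Type*} [Group Y] (hZ : center Y = ⊥) :
    Function.Injective (MulAut.conj : Y →* MulAut Y) := by
  rw [injective_iff_map_eq_one]
  intro g hg
  have : g ∈ center Y := by
    rw [mem_center_iff]
    intro y
    have h1 := congrArg (fun f : MulAut Y => f y) hg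
    simp only [MulAut.conj_apply, MulAut.one_apply] at h1
    rw [mul_inv_eq_iff_eq_mul] at h1
    exact h1.symm
  rw [hZ, mem_bot] at this
  exact this

theorem aut_conj {Y : Type*} [Group Y] (x : MulAut Y) (g : Y) : x * MulAut.conj g * x⁻¹ = MulAut.conj (x g) := by
  ext y
  simp only [MulAut.mul_apply, _root_.MulAut.inv_apply, _root_.MulAut.conj_apply, _root_.map_mul, _root_.MulEquiv.apply_symm_apply, _root_.map_inv]

/-- **Conjugacy.** -/
theorem conj_of_coset {Y : Type*} [Group Y] [Finite Y] {p : ℕ} [hpf : Fact p.Prime] (hp2 : p ≠ 2)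
    (hZ : center Y = ⊥) (hcyc : ∀ P : Sylow p Y, IsCyclic ↥(P : Subgroup Y)) {τ : MulAut Y} (hτ : τ ^ p = 1)
    (hlt : (Nat.card {y : Y // τ y = y}).factorization p < (Nat.card Y).factorization p) (g : Y)
    (hx : (MulAut.conj g * τ) ^ p = 1) : ∃ e : MulAut Y, MulAut.conj g * τ = e * τ * e⁻¹ := by
  classical
  have hp : p.Prime := hpf.out
  have hfin : Finite (MulAut Y) := Finite.of_injective (fun f : MulAut Y => (f : Y → Y)) DFunLike.coe_injective
  set N : Subgroup (MulAut Y) := (MulAut.conj : Y →* MulAut Y).range with hN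
  have hNn : N.Normal := by
    refine ⟨?_⟩
    rintro _ ⟨y, rfl⟩ x
    exact ⟨x y, (aut_conj x y).symm⟩
  set H : Subgroup (MulAut Y) := N ⊔ zpowers τ with hH
  have hNH : N ≤ H := le_sup_left
  have hτH : τ ∈ H := (le_sup_right : zpowers τ ≤ H) (mem_zpowers τ)
  set N' : Subgroup ↥H := N.subgroupOf H with hN'
  have hN'n : N'.Normal := inferInstance
  set t : ↥H := ⟨τ, hτH⟩ with ht
  have htp : t ^ p = 1 := Subtype.ext (by simpa only [_root_.SubmonoidClass.coe_pow, _root_.OneMemClass.coe_one] using hτ)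
  have hgH : MulAut.conj g ∈ H := hNH ⟨g, rfl⟩
  set x : ↥H := ⟨MulAut.conj g * τ, mul_mem hgH hτH⟩ with hxd
  have hxp : x ^ p = 1 := Subtype.ext (by simpa only [_root_.SubmonoidClass.coe_pow, _root_.OneMemClass.coe_one] using hx)
  -- `H = N' ⟨t⟩`
  have hdec : ∀ h : ↥H, ∃ n ∈ N', ∃ k : ℤ, h = n * t ^ k := by
    rintro ⟨h, hh⟩
    obtain ⟨n, hn, z, hz, e⟩ := mem_sup_of_normal_left.1 hh
    obtain ⟨k, rfl⟩ := mem_zpowers_iff.1 hz
    exact ⟨⟨n, hNH hn⟩, mem_subgroupOf.2 hn, k, Subtype.ext (by simpa using e.symm)⟩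
  -- Sylow subgroups
  have htg : IsPGroup p ↥(zpowers t) := by
    rw [IsPGroup.iff_orderOf]
    rintro ⟨z, hz⟩
    have h1 : orderOf z ∣ p := (orderOf_dvd_of_mem_zpowers hz).trans (orderOf_dvd_of_pow_eq_one htp)
    rw [Subgroup.orderOf_mk]
    rcases (Nat.dvd_prime hp).1 h1 with h2 | h2
    · exact ⟨0, by rw [h2, pow_zero]⟩
    · exact ⟨1, by rw [h2, pow_one]⟩
  have hxg : IsPGroup p ↥(zpowers x) := by
    rw [IsPGroup.iff_orderOf]
    rintro ⟨z, hz⟩
    have h1 : orderOf z ∣ p := (orderOf_dvd_of_mem_zpowers hz).trans (orderOf_dvd_of_pow_eq_one hxp)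
    rw [Subgroup.orderOf_mk]
    rcases (Nat.dvd_prime hp).1 h1 with h2 | h2
    · exact ⟨0, by rw [h2, pow_zero]⟩
    · exact ⟨1, by rw [h2, pow_one]⟩
  obtain ⟨S, hS⟩ := htg.exists_le_sylow
  obtain ⟨S', hS'⟩ := hxg.exists_le_sylow
  have htS : t ∈ (S : Subgroup ↥H) := hS (mem_zpowers t)
  obtain ⟨h, hh⟩ := MulAction.exists_smul_eq ↥H S' S
  have hxS : h * x * h⁻¹ ∈ (S : Subgroup ↥H) := by
    rw [← hh]
    have h1 : x ∈ (S' : Subgroup ↥H) := hS' (mem_zpowers x)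
    have h2 : (MulAut.conj h • (S' : Subgroup ↥H) : Subgroup ↥H) = ((h • S' : Sylow p ↥H) : Subgroup ↥H) := rfl
    rw [← h2]
    have h3 := Subgroup.smul_mem_pointwise_smul x (MulAut.conj h) (S' : Subgroup ↥H) h1
    simpa only [_root_.MulAut.smul_def, _root_.MulAut.conj_apply] using h3
  obtain ⟨n, hn, k, rfl⟩ := hdec h
  -- move the power of `t`
  set m : ↥H := (t ^ k)⁻¹ * n * t ^ k with hm
  have hmN : m ∈ N' := by
    have := hN'n.conj_mem n hn (t ^ k)⁻¹
    rwa [inv_inv] at this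
  have hxS' : m * x * m⁻¹ ∈ (S : Subgroup ↥H) := by
    have h1 := mul_mem (mul_mem (inv_mem (zpow_mem htS k)) hxS) (zpow_mem htS k)
    have e : m * x * m⁻¹ = (t ^ k)⁻¹ * (n * t ^ k * x * (n * t ^ k)⁻¹) * t ^ k := by
      rw [hm]; group
    rw [e]; exact h1
  have hgI : (⟨MulAut.conj g, hgH⟩ : ↥H) ∈ N' := mem_subgroupOf.2 ⟨g, rfl⟩
  have hxe : x = ⟨MulAut.conj g, hgH⟩ * t := rfl
  set y : ↥H := m * x * m⁻¹ * t⁻¹ with hy
  have hyN : y ∈ N' := by
    have e : y = m * ⟨MulAut.conj g, hgH⟩ * (t * m⁻¹ * t⁻¹) := by rw [hy, hxe]; group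
    rw [e]
    exact mul_mem (mul_mem hmN hgI) (hN'n.conj_mem _ (inv_mem hmN) t)
  set P : Subgroup ↥H := (S : Subgroup ↥H) ⊓ N' with hP
  have hyP : y ∈ P := ⟨(S : Subgroup ↥H).mul_mem hxS' ((S : Subgroup ↥H).inv_mem htS), hyN⟩
  have hyt : (y * t) ^ p = 1 := by
    have e : y * t = m * x * m⁻¹ := by rw [hy]; group
    rw [e, ← MulAut.conj_apply, ← map_pow, hxp, map_one]
  -- the group `P`
  have hPp : IsPGroup p ↥P := S.2.to_le inf_le_left
  let ψ : Y →* ↥H := (MulAut.conj : Y →* MulAut Y).codRestrict H fun y => hNH ⟨y, rfl⟩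
  have hψ : Function.Injective ψ := fun a b hab => conj_injective hZ (congrArg Subtype.val hab)
  have hψN : ψ.range = N' := by
    ext z
    constructor
    · rintro ⟨y, rfl⟩
      exact mem_subgroupOf.2 ⟨y, rfl⟩
    · intro hz
      obtain ⟨y, hy⟩ := mem_subgroupOf.1 hz
      exact ⟨y, Subtype.ext hy⟩
  have hmap : (P.comap ψ).map ψ = P := by
    rw [map_comap_eq, hψN]
    exact inf_eq_right.2 inf_le_right
  have hQp : IsPGroup p ↥(P.comap ψ) := hPp.comap_of_injective ψ hψ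
  have hPc : IsCyclic ↥P := by
    obtain ⟨Q, hQ⟩ := hQp.exists_le_sylow
    have h1 := hcyc Q
    have h2 : IsCyclic ↥(P.comap ψ) := isCyclic_of_injective (Subgroup.inclusion hQ) (Subgroup.inclusion_injective hQ)
    rw [← hmap]
    exact isCyclic_of_surjective (ψ.subgroupMap (P.comap ψ)) (ψ.subgroupMap_surjective (P.comap ψ))
  have hnP : ∀ k ∈ P, t * k * t⁻¹ ∈ P := fun k hk =>
    ⟨(S : Subgroup ↥H).mul_mem ((S : Subgroup ↥H).mul_mem htS hk.1) ((S : Subgroup ↥H).inv_mem htS), hN'n.conj_mem k hk.2 t⟩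
  have hnc : ∃ k ∈ P, t * k * t⁻¹ ≠ k := by
    by_contra hcon
    push Not at hcon
    obtain ⟨T, hT⟩ := Cfsg.Agent.H571.SylowNumber.exists_sylow_inf S N'
    have h1 : Nat.card ↥P = p ^ (Nat.card Y).factorization p := by
      have h2 : Nat.card ↥N' = Nat.card Y := by
        rw [← hψN]
        exact (Nat.card_congr (MonoidHom.ofInjective hψ).toEquiv).symm
      have h3 : Nat.card ↥(T : Subgroup ↥N') = p ^ (Nat.card ↥N').factorization p := T.card_eq_multiplicity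
      rw [← h2, ← h3, hT]
      have h4 : ((S : Subgroup ↥H).subgroupOf N').map N'.subtype = P := subgroupOf_map_subtype _ _
      rw [← h4]
      exact Subgroup.card_map_of_injective N'.subtype_injective
    let C : Subgroup Y :=
      { carrier := {y | τ y = y}
        one_mem' := map_one τ
        mul_mem' := fun {a b} ha hb => by show τ (a * b) = a * b; rw [map_mul, ha, hb]
        inv_mem' := fun {a} ha => by show τ a⁻¹ = a⁻¹; rw [map_inv, ha] }
    have hle : P.comap ψ ≤ C := by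
      intro q hq
      have h2 := hcon (ψ q) hq
      have h3 := congrArg Subtype.val h2
      show τ q = q
      apply conj_injective hZ
      rw [← aut_conj]
      exact h3
    have h5 : Nat.card ↥(P.comap ψ) ∣ Nat.card ↥C := Subgroup.card_dvd_of_le hle
    have h6 : Nat.card ↥(P.comap ψ) = Nat.card ↥P := by
      conv_rhs => rw [← hmap]
      exact (Subgroup.card_map_of_injective hψ).symm
    rw [h6, h1] at h5
    have h7 : Nat.card ↥C = Nat.card {y : Y // τ y = y} := rfl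
    rw [h7] at h5
    have h8 : Nat.card {y : Y // τ y = y} ≠ 0 := by rw [← h7]; exact Nat.card_pos.ne'
    have h9 := (hp.pow_dvd_iff_le_factorization h8).1 h5
    omega
  obtain ⟨c, hc, hc'⟩ := conj_of_cyclic hp2 hPp hPc htp hnP hnc hyP hyt
  refine ⟨(m : MulAut Y)⁻¹ * (c : MulAut Y), ?_⟩
  have h1 : x = m⁻¹ * c * t * (m⁻¹ * c)⁻¹ := by
    have e : x = m⁻¹ * (y * t) * m := by rw [hy]; group
    rw [e, hc']; group
  exact congrArg Subtype.val h1

/-! ### the conclusion of `FieldCent` -/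

/-- the conclusion of `FieldCent` for one automorphism -/
def Good (p s : ℕ) {Y : Type*} [Group Y] (x : MulAut Y) : Prop :=
  ∃ N : Subgroup Y, (∀ y ∈ N, x y = y) ∧ (∀ y, x y = y → y ∈ normalizer (N : Set Y)) ∧
      IsSimpleGroup ↥N ∧ (¬ IsMulCommutative ↥N) ∧ p ∣ Nat.card ↥N ∧
      (∀ y, x y = y → y ∈ centralizer (N : Set Y) → y = 1) ∧
      (Nat.card ↥N).factorization p < (Nat.card Y).factorization p ∧
      (Nat.card Y).factorization s = p * (Nat.card {y : Y // x y = y}).factorization s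

/-- transport -/
theorem Good.congr {p s : ℕ} {Y Y' : Type*} [Group Y] [Group Y'] (e : Y ≃* Y') {x : MulAut Y} {x' : MulAut Y'}
    (hx : ∀ y, x' (e y) = e (x y)) (h : Good p s x) : Good p s x' := by
  obtain ⟨N, h1, h2, h3, h4, h5, h6, h7, h8⟩ := h
  have hfx : ∀ y, x' (e y) = e y ↔ x y = y := fun y => by rw [hx]; exact e.injective.eq_iff
  have eN : ↥N ≃* ↥(N.map e.toMonoidHom) := e.subgroupMap N
  have hcY : Nat.card Y' = Nat.card Y := (Nat.card_congr e.toEquiv).symm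
  have hcN : Nat.card ↥(N.map e.toMonoidHom) = Nat.card ↥N := (Nat.card_congr eN.toEquiv).symm
  refine ⟨N.map e.toMonoidHom, ?_, ?_, ?_, ?_, ?_, ?_, ?_, ?_⟩
  · rintro _ ⟨y, hy, rfl⟩
    exact (hfx y).2 (h1 y hy)
  · intro y' hy'
    obtain ⟨y, rfl⟩ := e.surjective y'
    have h9 := h2 y ((hfx y).1 hy')
    rw [mem_normalizer_iff] at h9 ⊢
    intro z'
    obtain ⟨z, rfl⟩ := e.surjective z'
    have e1 : e y * e z * (e y)⁻¹ = e (y * z * y⁻¹) := by rw [map_mul, map_mul, map_inv]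
    have key : ∀ w : Y, e w ∈ N.map e.toMonoidHom ↔ w ∈ N := fun w => by
      constructor
      · rintro ⟨w', hw', hww⟩
        have : w' = w := e.injective hww
        rwa [← this]
      · intro hw
        exact ⟨w, hw, rfl⟩
    show e z ∈ N.map e.toMonoidHom ↔ e y * e z * (e y)⁻¹ ∈ N.map e.toMonoidHom
    rw [e1, key, key]
    exact h9 z
  · exact MulEquiv.isSimpleGroup eN.symm
  · intro hc
    apply h4
    refine ⟨⟨fun a b => ?_⟩⟩
    apply eN.injective
    rw [map_mul, map_mul]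
    exact hc.is_comm.comm _ _
  · rw [hcN]; exact h5
  · intro y' hy' hc
    obtain ⟨y, rfl⟩ := e.surjective y'
    have : y = 1 := by
      refine h6 y ((hfx y).1 hy') ?_
      rw [mem_centralizer_iff] at hc ⊢
      intro z hz
      have h9 := hc (e z) ⟨z, hz, rfl⟩
      apply e.injective
      rw [map_mul, map_mul]
      exact h9
    rw [this, map_one]
  · rw [hcN, hcY]; exact h7
  · rw [hcY, h8]
    congr 3
    refine Nat.card_congr ⟨fun y => ⟨e y.1, (hfx y.1).2 y.2⟩, fun y' => ⟨e.symm y'.1, ?_⟩, fun y => ?_, fun y' => ?_⟩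
    · rw [← hfx, e.apply_symm_apply]; exact y'.2
    · exact Subtype.ext (e.symm_apply_apply y.1)
    · exact Subtype.ext (e.apply_symm_apply y'.1)

theorem Good.conj {p s : ℕ} {Y : Type*} [Group Y] (e : MulAut Y) {x : MulAut Y} (h : Good p s x) :
    Good p s (e * x * e⁻¹) :=
  h.congr e fun y => by
    show e (x (e⁻¹ (e y))) = e (x y)
    rw [MulAut.inv_apply_self]

theorem fieldCent_iff (p s : ℕ) (Y : Type*) [Group Y] : FieldCent p s Y ↔
    ∀ x : MulAut Y, orderOf x = p → (¬ ∃ g, x = MulAut.conj g) → p ∣ Nat.card Y →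
    (∀ P : Sylow p Y, IsCyclic ↥(P : Subgroup Y)) → Good p s x := Iff.rfl

theorem FieldCent.congr {p s : ℕ} {Y Y' : Type*} [Group Y] [Group Y'] (e : Y ≃* Y') (h : FieldCent p s Y) :
    FieldCent p s Y' := by
  rw [fieldCent_iff] at h ⊢
  intro x' hx' hout hdvd hcyc
  set x : MulAut Y := e.trans (x'.trans e.symm) with hx
  have hxe : ∀ y, x' (e y) = e (x y) := fun y => by
    show x' (e y) = e (e.symm (x' (e y)))
    rw [e.apply_symm_apply]
  refine Good.congr e hxe (h x ?_ ?_ ?_ ?_)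
  · rw [← hx']
    have h1 : ∀ (k : ℕ) (y : Y), (x' ^ k) (e y) = e ((x ^ k) y) := by
      intro k
      induction k with
      | zero => intro y; rfl
      | succ k ih => intro y; rw [pow_succ, pow_succ, MulAut.mul_apply, MulAut.mul_apply, hxe, ih]
    have h2 : ∀ k : ℕ, x ^ k = 1 ↔ x' ^ k = 1 := by
      intro k
      constructor
      · intro h3
        ext y'
        obtain ⟨y, rfl⟩ := e.surjective y'
        rw [h1, h3]; rfl
      · intro h3
        ext y
        apply e.injective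
        rw [← h1, h3]; rfl
    exact Nat.dvd_antisymm (orderOf_dvd_of_pow_eq_one ((h2 _).2 (pow_orderOf_eq_one x')))
      (orderOf_dvd_of_pow_eq_one ((h2 _).1 (pow_orderOf_eq_one x)))
  · rintro ⟨g, hg⟩
    apply hout
    refine ⟨e g, ?_⟩
    ext y'
    obtain ⟨y, rfl⟩ := e.surjective y'
    rw [hxe, hg, MulAut.conj_apply, MulAut.conj_apply, map_mul, map_mul, map_inv]
  · rwa [Nat.card_congr e.toEquiv]
  · intro P
    have h1 := hcyc (P.comapOfInjective e.symm.toMonoidHom e.symm.injective (by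
      intro x _
      exact ⟨e x, e.symm_apply_apply x⟩))
    have h2 : ((P.comapOfInjective e.symm.toMonoidHom e.symm.injective (by
      intro x _
      exact ⟨e x, e.symm_apply_apply x⟩) : Sylow p Y') : Subgroup Y') = (P : Subgroup Y).comap e.symm.toMonoidHom := rfl
    have h3 : ((P : Subgroup Y).comap e.symm.toMonoidHom).map e.symm.toMonoidHom = (P : Subgroup Y) :=
      Subgroup.map_comap_eq_self (fun x _ => ⟨e x, e.symm_apply_apply x⟩)
    rw [h2] at h1
    have h4 : IsCyclic ↥(((P : Subgroup Y).comap e.symm.toMonoidHom).map e.symm.toMonoidHom) :=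
      isCyclic_of_surjective (e.symm.subgroupMap ((P : Subgroup Y).comap e.symm.toMonoidHom))
        (e.symm.subgroupMap ((P : Subgroup Y).comap e.symm.toMonoidHom)).surjective
    rwa [h3] at h4

end Cfsg.Agent.H640.FC
end

-- part: H640/FC/Red
section
/-!
# `FieldCent` from the standard field automorphisms

* `Good.factorization_fix` : if the Sylow `p`-subgroups of `Y` are cyclic, `Good p s τ` implies `|C_Y(τ)|_p < |Y|_p`
  (cyclic Sylow subgroups and a simple normal subgroup of order divisible by `p`: the index is prime to `p`);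
* `fieldCent_of'` : it suffices that every outer automorphism of order `p` lies, up to conjugacy in `Aut(Y)`, in a coset
  `Inn(Y) τ` with `Good p s τ`.
-/

set_option autoImplicit false

namespace Cfsg.Agent.H640.FC

open Cfsg Subgroup Cfsg.Agent.H818.StrP

/-- a nonabelian simple group of order divisible by `p` has no normal `p`-complement -/
theorem not_hasNormalPComplement {p : ℕ} [hp : Fact p.Prime] {N : Type*} [Group N] [Finite N] (hs : IsSimpleGroup N)
    (hna : ¬ IsMulCommutative N) (hd : p ∣ Nat.card N) : ¬ HasNormalPComplement p N := by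
  rintro ⟨P, K, hK, h1⟩
  rcases hK.eq_bot_or_eq_top with h | h
  · rw [h] at h1
    have h2 : (P : Subgroup N) = ⊤ := by simpa using h1
    have h3 : IsPGroup p N := by
      have h4 := P.2
      rw [h2] at h4
      exact h4.of_equiv Subgroup.topEquiv
    have h5 : Nontrivial N := hs.toNontrivial
    have h6 := h3.center_nontrivial
    have h7 := center_of_simple hs hna
    rw [h7] at h6
    exact (Subgroup.nontrivial_iff_ne_bot _).1 h6 rfl
  · rw [h] at h1
    have h2 : (P : Subgroup N) = ⊥ := by simpa only [_root_.Subgroup.isComplement'_top_left] using h1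
    have h3 := P.card_eq_multiplicity
    rw [h2, Subgroup.card_bot] at h3
    have h4 : 0 < (Nat.card N).factorization p := hp.out.factorization_pos_of_dvd Nat.card_pos.ne' hd
    have h5 : 1 < p ^ (Nat.card N).factorization p := Nat.one_lt_pow h4.ne' hp.out.one_lt
    omega

/-- subgroups of a group with cyclic Sylow `p`-subgroups -/
theorem cyclic_sylow_subgroup {p : ℕ} [Fact p.Prime] {Y : Type*} [Group Y] [Finite Y]
    (hcyc : ∀ P : Sylow p Y, IsCyclic ↥(P : Subgroup Y)) (C : Subgroup Y) (P : Sylow p ↥C) :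
    IsCyclic ↥(P : Subgroup ↥C) := by
  have h1 : IsPGroup p ↥((P : Subgroup ↥C).map C.subtype) := P.2.map C.subtype
  obtain ⟨Q, hQ⟩ := h1.exists_le_sylow
  have h2 := hcyc Q
  have h3 : IsCyclic ↥((P : Subgroup ↥C).map C.subtype) :=
    isCyclic_of_injective (Subgroup.inclusion hQ) (Subgroup.inclusion_injective hQ)
  exact isCyclic_of_injective (((P : Subgroup ↥C).equivMapOfInjective C.subtype C.subtype_injective).toMonoidHom)
    (((P : Subgroup ↥C).equivMapOfInjective C.subtype C.subtype_injective).injective)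

/-- cyclic Sylow `p`-subgroups and a simple normal subgroup of order divisible by `p`: the index is prime to `p` -/
theorem not_dvd_index_of_cyclic {p : ℕ} [hp : Fact p.Prime] {C : Type*} [Group C] [Finite C]
    (hcyc : ∀ P : Sylow p C, IsCyclic ↥(P : Subgroup C)) (N : Subgroup C) [N.Normal] (hs : IsSimpleGroup ↥N)
    (hna : ¬ IsMulCommutative ↥N) (hd : p ∣ Nat.card ↥N) : ¬ p ∣ N.index := by
  intro h
  obtain ⟨P⟩ : Nonempty (Sylow p C) := inferInstance
  exact not_hasNormalPComplement hs hna hd (Cfsg.Agent.S4145.result p P (hcyc P) N hd h).1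

/-- the subgroup of fixed points -/
def fixS {Y : Type*} [Group Y] (τ : MulAut Y) : Subgroup Y where
  carrier := {y | τ y = y}
  one_mem' := map_one τ
  mul_mem' := fun {a b} ha hb => by
    show τ (a * b) = a * b
    rw [map_mul, ha, hb]
  inv_mem' := fun {a} ha => by
    show τ a⁻¹ = a⁻¹
    rw [map_inv, ha]

theorem Good.factorization_fix {p s : ℕ} [hp : Fact p.Prime] {Y : Type*} [Group Y] [Finite Y]
    (hcyc : ∀ P : Sylow p Y, IsCyclic ↥(P : Subgroup Y)) {τ : MulAut Y} (h : Good p s τ) :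
    (Nat.card {y : Y // τ y = y}).factorization p < (Nat.card Y).factorization p := by
  obtain ⟨N, h1, h2, h3, h4, h5, h6, h7, h8⟩ := h
  have hc : Nat.card {y : Y // τ y = y} = Nat.card ↥(fixS τ) := rfl
  have hNC : N ≤ fixS τ := h1
  have hn : (N.subgroupOf (fixS τ)).Normal := Subgroup.normal_subgroupOf_of_le_normalizer fun y hy => h2 y hy
  let e : ↥(N.subgroupOf (fixS τ)) ≃* ↥N := Subgroup.subgroupOfEquivOfLe hNC
  have hcard : Nat.card ↥(N.subgroupOf (fixS τ)) = Nat.card ↥N := Nat.card_congr e.toEquiv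
  have h9 : ¬ p ∣ (N.subgroupOf (fixS τ)).index := by
    refine not_dvd_index_of_cyclic (cyclic_sylow_subgroup hcyc _) (N.subgroupOf (fixS τ)) (MulEquiv.isSimpleGroup e) ?_
      (by rw [hcard]; exact h5)
    intro hcm
    apply h4
    refine ⟨⟨fun a b => ?_⟩⟩
    apply e.symm.injective
    rw [map_mul, map_mul]
    exact hcm.is_comm.comm _ _
  have h10 := (N.subgroupOf (fixS τ)).card_mul_index
  have hi0 : (N.subgroupOf (fixS τ)).index ≠ 0 := Subgroup.index_ne_zero_of_finite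
  rw [hc, ← h10, Nat.factorization_mul Nat.card_pos.ne' hi0, Finsupp.add_apply,
    Nat.factorization_eq_zero_of_not_dvd h9, add_zero, hcard]
  exact h7

end Cfsg.Agent.H640.FC
end

-- part: H640/FC/Num
section
/-!
# Order polynomials at `q₀` and `q₀ ^ p`

`Up p q₀ f` : `p ∣ f (q₀ ^ p)` implies `p ∣ f q₀`, and `p ∣ f q₀` implies `v_p (f q₀) < v_p (f (q₀ ^ p))`.
-/

set_option autoImplicit false

namespace Cfsg.Agent.H640.FC.Num

structure Up (p q₀ : ℕ) (f : ℕ → ℕ) : Prop where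
  ne0 : f q₀ ≠ 0
  ne : f (q₀ ^ p) ≠ 0
  dvd : p ∣ f (q₀ ^ p) → p ∣ f q₀
  lt : p ∣ f q₀ → (f q₀).factorization p < (f (q₀ ^ p)).factorization p

theorem Up.le {p q₀ : ℕ} {f : ℕ → ℕ} (h : Up p q₀ f) : (f q₀).factorization p ≤ (f (q₀ ^ p)).factorization p := by
  by_cases h1 : p ∣ f q₀
  · exact (h.lt h1).le
  · rw [Nat.factorization_eq_zero_of_not_dvd h1]
    exact Nat.zero_le _

theorem Up.mul {p q₀ : ℕ} (hp : p.Prime) {f g : ℕ → ℕ} (hf : Up p q₀ f) (hg : Up p q₀ g) :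
    Up p q₀ fun q => f q * g q where
  ne0 := mul_ne_zero hf.ne0 hg.ne0
  ne := mul_ne_zero hf.ne hg.ne
  dvd h := by
    rcases hp.dvd_mul.1 h with h | h
    · exact (hf.dvd h).mul_right _
    · exact (hg.dvd h).mul_left _
  lt h := by
    rw [Nat.factorization_mul hf.ne0 hg.ne0, Nat.factorization_mul hf.ne hg.ne, Finsupp.add_apply, Finsupp.add_apply]
    rcases hp.dvd_mul.1 h with h | h
    · exact add_lt_add_of_lt_of_le (hf.lt h) hg.le
    · exact add_lt_add_of_le_of_lt hf.le (hg.lt h)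

theorem pow_modEq {p : ℕ} (hp : p.Prime) (x : ℕ) : x ^ p ≡ x [MOD p] := by
  have : Fact p.Prime := ⟨hp⟩
  rw [← ZMod.natCast_eq_natCast_iff]
  push_cast
  exact ZMod.pow_card _

theorem up_sub {p q₀ : ℕ} (hp : p.Prime) (hp2 : p ≠ 2) (hq : 2 ≤ q₀) {m : ℕ} (hm : m ≠ 0) :
    Up p q₀ fun q => q ^ m - 1 := by
  have : Fact p.Prime := ⟨hp⟩
  have hx : 2 ≤ q₀ ^ m := hq.trans (Nat.le_self_pow hm q₀)
  have hx1 : 1 < (q₀ ^ m) ^ p := Nat.one_lt_pow hp.ne_zero (by omega)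
  have e : (q₀ ^ p) ^ m = (q₀ ^ m) ^ p := by rw [← pow_mul, ← pow_mul, mul_comm]
  have hmod : (q₀ ^ m) ^ p ≡ q₀ ^ m [MOD p] := pow_modEq hp _
  refine ⟨?_, ?_, ?_, ?_⟩
  · show q₀ ^ m - 1 ≠ 0
    omega
  · show (q₀ ^ p) ^ m - 1 ≠ 0
    rw [e]; omega
  · intro h
    change p ∣ (q₀ ^ p) ^ m - 1 at h
    rw [e] at h
    show p ∣ q₀ ^ m - 1
    rw [← Nat.modEq_iff_dvd' (by omega)] at h ⊢
    exact h.trans hmod
  · intro h
    change p ∣ q₀ ^ m - 1 at h
    show (q₀ ^ m - 1).factorization p < ((q₀ ^ p) ^ m - 1).factorization p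
    rw [e, Nat.factorization_def _ hp, Nat.factorization_def _ hp]
    have hnd : ¬ p ∣ q₀ ^ m := by
      intro h1
      have h2 : p ∣ 1 := by
        have := Nat.dvd_sub h1 h
        rwa [Nat.sub_sub_self (by omega)] at this
      exact hp.one_lt.ne' (Nat.dvd_one.1 h2)
    have h3 := padicValNat.pow_sub_pow (p := p) (hp.odd_of_ne_two hp2) (x := q₀ ^ m) (y := 1) (by omega) h hnd
      (n := p) hp.ne_zero
    rw [one_pow, padicValNat_self] at h3
    omega

theorem up_add {p q₀ : ℕ} (hp : p.Prime) (hp2 : p ≠ 2) {m : ℕ} : Up p q₀ fun q => q ^ m + 1 := by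
  have : Fact p.Prime := ⟨hp⟩
  have e : (q₀ ^ p) ^ m = (q₀ ^ m) ^ p := by rw [← pow_mul, ← pow_mul, mul_comm]
  have hmod : (q₀ ^ m) ^ p ≡ q₀ ^ m [MOD p] := pow_modEq hp _
  refine ⟨?_, ?_, ?_, ?_⟩
  · show q₀ ^ m + 1 ≠ 0
    omega
  · show (q₀ ^ p) ^ m + 1 ≠ 0
    omega
  · intro h
    change p ∣ (q₀ ^ p) ^ m + 1 at h
    rw [e] at h
    show p ∣ q₀ ^ m + 1
    rw [← Nat.modEq_zero_iff_dvd] at h ⊢
    exact (hmod.add_right 1).symm.trans h
  · intro h
    change p ∣ q₀ ^ m + 1 at h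
    show (q₀ ^ m + 1).factorization p < ((q₀ ^ p) ^ m + 1).factorization p
    rw [e, Nat.factorization_def _ hp, Nat.factorization_def _ hp]
    have hnd : ¬ p ∣ q₀ ^ m := by
      intro h1
      exact hp.one_lt.ne' (Nat.dvd_one.1 ((Nat.dvd_add_right h1).1 h))
    have h3 := padicValNat.pow_add_pow (p := p) (hp.odd_of_ne_two hp2) (x := q₀ ^ m) (y := 1) h hnd
      (n := p) (hp.odd_of_ne_two hp2)
    rw [one_pow, padicValNat_self] at h3
    omega

theorem up_phi {p q₀ : ℕ} (hp : p.Prime) (h5 : 5 ≤ p) (hq : 2 ≤ q₀) {m : ℕ} (hm : m ≠ 0) :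
    Up p q₀ fun q => (q ^ m) ^ 2 + q ^ m + 1 := by
  have : Fact p.Prime := ⟨hp⟩
  have hx : 2 ≤ q₀ ^ m := hq.trans (Nat.le_self_pow hm q₀)
  have e : (q₀ ^ p) ^ m = (q₀ ^ m) ^ p := by rw [← pow_mul, ← pow_mul, mul_comm]
  have hmod : (q₀ ^ m) ^ p ≡ q₀ ^ m [MOD p] := pow_modEq hp _
  obtain ⟨x, hxe⟩ : ∃ x, x = q₀ ^ m := ⟨_, rfl⟩
  rw [← hxe] at hx e hmod
  have key : ∀ y : ℕ, 2 ≤ y → (y ^ 2 + y + 1) * (y - 1) = y ^ 3 - 1 := by
    intro y hy
    obtain ⟨z, rfl⟩ := Nat.exists_eq_add_of_le hy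
    have : 2 + z - 1 = 1 + z := by omega
    rw [this]
    have h2 : (2 + z) ^ 3 = ((2 + z) ^ 2 + (2 + z) + 1) * (1 + z) + 1 := by ring
    rw [h2, Nat.add_sub_cancel]
  have hxp : 2 ≤ x ^ p := hx.trans (Nat.le_self_pow hp.ne_zero x)
  refine ⟨?_, ?_, ?_, ?_⟩
  · show (q₀ ^ m) ^ 2 + q₀ ^ m + 1 ≠ 0
    omega
  · show ((q₀ ^ p) ^ m) ^ 2 + (q₀ ^ p) ^ m + 1 ≠ 0
    omega
  · intro h
    change p ∣ ((q₀ ^ p) ^ m) ^ 2 + (q₀ ^ p) ^ m + 1 at h
    rw [e] at h
    show p ∣ (q₀ ^ m) ^ 2 + q₀ ^ m + 1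
    rw [← hxe]
    rw [← Nat.modEq_zero_iff_dvd] at h ⊢
    exact (((hmod.pow 2).add hmod).add_right 1).symm.trans h
  · intro h
    change p ∣ (q₀ ^ m) ^ 2 + q₀ ^ m + 1 at h
    show ((q₀ ^ m) ^ 2 + q₀ ^ m + 1).factorization p < (((q₀ ^ p) ^ m) ^ 2 + (q₀ ^ p) ^ m + 1).factorization p
    rw [e, ← hxe]
    rw [← hxe] at h
    have hn1 : ¬ p ∣ x - 1 := by
      intro h1
      have h2 : x ≡ 1 [MOD p] := ((Nat.modEq_iff_dvd' (by omega)).2 h1).symm
      have h3 : x ^ 2 + x + 1 ≡ 1 ^ 2 + 1 + 1 [MOD p] := ((h2.pow 2).add h2).add_right 1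
      have h4 : p ∣ 3 := by
        rw [← Nat.modEq_zero_iff_dvd] at h ⊢
        exact h3.symm.trans h
      exact absurd (Nat.le_of_dvd (by norm_num) h4) (by omega)
    have hn2 : ¬ p ∣ x ^ p - 1 := by
      intro h1
      apply hn1
      rw [← Nat.modEq_iff_dvd' (by omega)] at h1 ⊢
      exact h1.trans hmod
    have h3 : p ∣ x ^ 3 - 1 := by rw [← key x hx]; exact h.mul_right _
    have hnd : ¬ p ∣ x ^ 3 := by
      intro h1
      have h2 : p ∣ 1 := by
        have := Nat.dvd_sub h1 h3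
        have h4 : 1 ≤ x ^ 3 := Nat.one_le_pow _ _ (by omega)
        rwa [Nat.sub_sub_self h4] at this
      exact hp.one_lt.ne' (Nat.dvd_one.1 h2)
    have h4 := padicValNat.pow_sub_pow (p := p) (hp.odd_of_ne_two (by omega)) (x := x ^ 3) (y := 1)
      (by calc 1 < 2 ^ 3 := by norm_num
            _ ≤ x ^ 3 := Nat.pow_le_pow_left hx 3) h3 hnd (n := p) hp.ne_zero
    rw [one_pow, padicValNat_self, ← pow_mul, mul_comm 3 p, pow_mul, ← key x hx, ← key _ hxp,
      padicValNat.mul (by omega) (by omega), padicValNat.mul (by omega) (by omega),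
      padicValNat.eq_zero_of_not_dvd hn1, padicValNat.eq_zero_of_not_dvd hn2] at h4
    rw [Nat.factorization_def _ hp, Nat.factorization_def _ hp]
    omega

/-- the part of the characteristic -/
theorem factorization_char {s a m N g F : ℕ} (hs : s.Prime) (h : g * N = (s ^ a) ^ m * F) (hg : ¬ s ∣ g) (hF : ¬ s ∣ F)
    (hN : N ≠ 0) : N.factorization s = a * m := by
  have hg0 : g ≠ 0 := by rintro rfl; exact hg (dvd_zero s)
  have hF0 : F ≠ 0 := by rintro rfl; exact hF (dvd_zero s)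
  have h1 := congrArg (fun n : ℕ => n.factorization s) h
  rw [Nat.factorization_mul hg0 hN, Nat.factorization_mul (by exact pow_ne_zero _ (pow_ne_zero _ hs.ne_zero)) hF0,
    Finsupp.add_apply, Finsupp.add_apply, Nat.factorization_eq_zero_of_not_dvd hg,
    Nat.factorization_eq_zero_of_not_dvd hF, zero_add, add_zero, ← pow_mul, hs.factorization_pow] at h1
  rw [h1, Finsupp.single_eq_same]

end Cfsg.Agent.H640.FC.Num
end

-- part: H640/FC/TwSix
section
/-!
# Standard field automorphisms of prime order `p ≥ 5` of `²E₆(q)`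

* `map_DD` : the fixed points on the root groups of the field automorphism `τ` (of any order) generate `²E₆` over the fixed
  field;
* `good_st` : `Good p s (st q τ)` if `τ` has order `p ≥ 5`, `p ≠ s`, `p ∣ |²E₆(q)|`.
-/

set_option autoImplicit false
set_option linter.unusedSectionVars false
set_option maxHeartbeats 400000

namespace Cfsg.Agent.H640.FC.TwSix

open CoxeterSystem Cfsg.Agent.ChevalleyStructure.CoxeterGeom Cfsg.Agent.Tits.Roots Cfsg.Agent.Tits.Core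
  Cfsg.Agent.Tits.Exchange Cfsg.Agent.Nodes.Reps Cfsg.Agent.Nodes.BNOf Cfsg.Agent.Nodes.StabComb
  Cfsg.Agent.Nodes.Bruhat Cfsg.Agent.Nodes.OppDec Cfsg.Agent.Nodes.RGDTwGen Cfsg.Agent.Nodes.RGDChev
  Cfsg.Agent.Nodes.RGDFold Cfsg.Agent.Nodes.RGDFoldSL
open Cfsg.Agent.KFacts.RgdOpp Cfsg.Agent.KFacts.RgdAut Cfsg.Agent.KFacts.RgdDiag Cfsg.Agent.KFacts.RgdRigid
  Cfsg.Agent.KFacts.RgdField Cfsg.Agent.KFacts.RgdTau Cfsg.Agent.KFacts.RgdNodes
open Cfsg.Lie Cfsg.Agent.ChevalleyStructure Cfsg.Agent.ChevalleyStructure.Elts Cfsg.Agent.ChevStructure.FieldMap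
open Cfsg.Agent.ChevalleyStructure.SL2Hom (up lo)
open Cfsg.Agent.KFacts.TwESix.NodeCoord Cfsg.Agent.KFacts.TwESix.Out Cfsg.Agent.KFacts.TwESix.OutTwo
open Cfsg.Agent.Nodes.RGDTwE6 Cfsg.Agent.Nodes.RGDTwNode.E6
open Cfsg.Agent.ChevalleyStructure.TwE6Basic (hE6 single_mem pair_mem twisted_le_iff exists_frob)
open Cfsg.Agent.CpAut.RgdFix Cfsg.Agent.CpAut.RgdCoh Cfsg.Agent.CpAut.RgdConj Cfsg.Agent.CpAut.RgdSub
  Cfsg.Agent.CpAut.RgdTwStd Cfsg.Agent.CpAut.RgdTwE6
open Cfsg.Agent.H640.FC.Rgd (HasFixRep hasFixRep_of_std DD_le')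

universe u

section Std

variable {K : Type u} [Field K] [Fintype K] {q : ℕ} {φ : K →+* K} (hφ : ∀ x, φ x = x ^ q)
  (hqq : ∀ t : K, (t ^ q) ^ q = t) (τ : K ≃+* K)

variable {W : Type*} [Group W] (cs : CoxeterSystem CoxeterMatrix.F₄ W)

include hφ hqq in
/-- **The fixed points on the root groups generate `²E₆` over the fixed field.** -/
theorem map_DD (p : ℕ) [Fact p.Prime] [CharP K p] :
    (DD cs isCartan (X φ q) (st q τ)).map (twistedE6 K q).subtype =
      (twistedE6 ↥(fixF τ) q).map (glm chevE6 (fixF τ)) := by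
  have : Finite W := Cfsg.Agent.Nodes.RGDFold.finite_W (hp := hp) cs isCartan foldData
  have R := Cfsg.Agent.Nodes.RGDTwE6.rgd cs hφ hqq p
  have hs : ∀ r ∈ [46, 25, 39, 32], ∀ a : K, τ a = a → φ a = a →
      xG hE6 r a * 1 ∈ (twistedE6 ↥(fixF τ) q).map (glm chevE6 (fixF τ)) := by
    intro r hr a ha ha'
    rw [mul_one]
    refine ⟨xG hE6 r (⟨a, ha⟩ : ↥(fixF τ)), single_mem (Subtype.ext ?_) hr, glm_xG hE6 _ r _⟩
    rw [SubmonoidClass.coe_pow]
    exact (hφ a).symm.trans ha'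
  have hd : ∀ rs ∈ [(56, 36), (15, 35), (42, 37), (29, 34)], ∀ a : K, τ a = a →
      xG hE6 rs.1 a * (xG hE6 rs.2 (φ a) * 1) ∈ (twistedE6 ↥(fixF τ) q).map (glm chevE6 (fixF τ)) := by
    intro rs hr a ha
    rw [mul_one]
    refine ⟨_, pair_mem (⟨a, ha⟩ : ↥(fixF τ)) hr, ?_⟩
    rw [map_mul]
    show glm chevE6 (fixF τ) (xG hE6 rs.1 _) * glm chevE6 (fixF τ) (xG hE6 rs.2 _) = _
    rw [glm_xG, glm_xG, SubmonoidClass.coe_pow, hφ]
  have hcases : ∀ i : Fin 4, i = 0 ∨ i = 1 ∨ i = 2 ∨ i = 3 := by decide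
  apply le_antisymm
  · rw [Subgroup.map_le_iff_le_comap]
    refine DD_le' R (mem_X hφ hqq) (PhiE_wS hφ hqq) (st_up hφ hqq τ) (st_n hφ τ) (coordE hφ hqq)
      (ntau_st hφ hqq τ cs p).diag (fun i a ha => ?_) (fun i a ha => ?_)
    · rw [Subgroup.mem_comap]
      show ((PhiE hφ hqq i (up a) : ↥(twistedE6 K q)) : GL chevE6.Idx K) ∈ _
      rw [coe_up]
      have ha1 : τ (a : K) = a := congrArg Subtype.val ha
      rcases hcases i with rfl | rfl | rfl | rfl
      · exact hs 46 (by simp) a ha1 (mem_Fx.1 a.2)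
      · exact hs 39 (by simp) a ha1 (mem_Fx.1 a.2)
      · exact hd (42, 37) (by simp) a ha1
      · exact hd (56, 36) (by simp) a ha1
    · rw [Subgroup.mem_comap]
      show ((PhiE hφ hqq i (lo a) : ↥(twistedE6 K q)) : GL chevE6.Idx K) ∈ _
      rw [coe_lo]
      have ha1 : τ (a : K) = a := congrArg Subtype.val ha
      rcases hcases i with rfl | rfl | rfl | rfl
      · exact hs 25 (by simp) a ha1 (mem_Fx.1 a.2)
      · exact hs 32 (by simp) a ha1 (mem_Fx.1 a.2)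
      · exact hd (29, 34) (by simp) a ha1
      · exact hd (15, 35) (by simp) a ha1
  · rw [Subgroup.map_le_iff_le_comap, twisted_le_iff]
    have hup : ∀ (i : Fin 4) (a : KF φ i), τ (a : K) = a →
        yv (xG hE6) φ (_root_.Cfsg.Agent.Nodes.RGDTwNode.E6.rep i :: rest i) (a : K) ∈ (DD cs isCartan (X φ q) (st q τ)).map (twistedE6 K q).subtype := by
      intro i a ha
      rw [← coe_up hφ hqq]
      exact ⟨_, up_mem_DD (mem_X hφ hqq) (st_up hφ hqq τ) (Subtype.ext ha), rfl⟩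
    have hlo : ∀ (i : Fin 4) (a : KF φ i), τ (a : K) = a →
        yv (xG hE6) φ (negO i) (a : K) ∈ (DD cs isCartan (X φ q) (st q τ)).map (twistedE6 K q).subtype := by
      intro i a ha
      rw [← coe_lo hφ hqq]
      exact ⟨_, lo_mem_DD R (mem_X hφ hqq) (PhiE_wS hφ hqq) (st_up hφ hqq τ) (st_n hφ τ) (Subtype.ext ha), rfl⟩
    have h1 : ∀ a : K, φ a = a → a ∈ Fx φ 1 := fun a ha => mem_Fx.2 ha
    have h2 : ∀ a : K, a ∈ Fx φ 2 := fun a => mem_Fx.2 (by
      show φ (φ a) = a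
      rw [hφ, hφ, hqq])
    refine ⟨fun t ht r hr => ?_, fun t rs hr => ?_⟩
    · rw [Subgroup.mem_comap]
      show glm chevE6 (fixF τ) (xG hE6 r t) ∈ _
      rw [glm_xG, ← mul_one (xG hE6 r (t : K))]
      have ht' : φ (t : K) = t := by
        rw [hφ]
        have := congrArg Subtype.val ht
        rwa [SubmonoidClass.coe_pow] at this
      simp only [List.mem_cons, List.not_mem_nil, or_false] at hr
      rcases hr with rfl | rfl | rfl | rfl
      · exact hup 0 ⟨t, h1 _ ht'⟩ t.2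
      · exact hlo 0 ⟨t, h1 _ ht'⟩ t.2
      · exact hup 1 ⟨t, h1 _ ht'⟩ t.2
      · exact hlo 1 ⟨t, h1 _ ht'⟩ t.2
    · rw [Subgroup.mem_comap]
      show glm chevE6 (fixF τ) (xG hE6 rs.1 t * xG hE6 rs.2 (t ^ q)) ∈ _
      rw [map_mul, glm_xG, glm_xG, SubmonoidClass.coe_pow, ← hφ, ← mul_one (xG hE6 rs.2 (φ (t : K)))]
      simp only [List.mem_cons, List.not_mem_nil, or_false] at hr
      rcases hr with rfl | rfl | rfl | rfl
      · exact hup 3 ⟨t, h2 _⟩ t.2
      · exact hlo 3 ⟨t, h2 _⟩ t.2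
      · exact hup 2 ⟨t, h2 _⟩ t.2
      · exact hlo 2 ⟨t, h2 _⟩ t.2

include hφ hqq in
theorem DD_equiv (p : ℕ) [Fact p.Prime] [CharP K p] :
    Nonempty (↥(DD cs isCartan (X φ q) (st q τ)) ≃* ↥(twistedE6 ↥(fixF τ) q)) :=
  ⟨((DD cs isCartan (X φ q) (st q τ)).equivMapOfInjective (twistedE6 K q).subtype
    (twistedE6 K q).subtype_injective).trans ((MulEquiv.subgroupCongr (map_DD hφ hqq τ cs p)).trans
    ((twistedE6 ↥(fixF τ) q).equivMapOfInjective (glm chevE6 (fixF τ)) (glm_injective _)).symm)⟩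

end Std

/-! ### numbers -/

open Cfsg.Agent.H640.FC.Num

/-- the prime to the characteristic part of the order -/
def Fo (q : ℕ) : ℕ :=
  (q ^ 2 - 1) * ((q ^ 5 + 1) * ((q ^ 6 - 1) * ((q ^ 8 - 1) * ((q ^ 9 + 1) * (q ^ 12 - 1)))))

theorem up_Fo {p q₀ : ℕ} (hp : p.Prime) (hp2 : p ≠ 2) (hq : 2 ≤ q₀) : Up p q₀ Fo :=
  Up.mul hp (up_sub hp hp2 hq (by norm_num)) (Up.mul hp (up_add hp hp2) (Up.mul hp (up_sub hp hp2 hq (by norm_num))
    (Up.mul hp (up_sub hp hp2 hq (by norm_num)) (Up.mul hp (up_add hp hp2) (up_sub hp hp2 hq (by norm_num))))))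

theorem card_eq {K : Type*} [Field K] [Fintype K] {q : ℕ} (hq : IsPrimePow q) (hK : Fintype.card K = q ^ 2) :
    Nat.gcd 3 (q + 1) * Nat.card ↥(twistedE6 K q) = q ^ 36 * Fo q := by
  rw [Cfsg.Agent.S1066.result hq hK]
  unfold Fo
  ring

theorem not_dvd_sub_of {s q m : ℕ} (hs : s.Prime) (h : s ∣ q) (hq : 1 ≤ q) (hm : m ≠ 0) : ¬ s ∣ q ^ m - 1 := by
  intro h1
  have h2 : s ∣ q ^ m := h.trans (dvd_pow_self q hm)
  have h3 : s ∣ 1 := by
    have := Nat.dvd_sub h2 h1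
    rwa [Nat.sub_sub_self (Nat.one_le_pow _ _ hq)] at this
  exact hs.one_lt.ne' (Nat.dvd_one.1 h3)

theorem not_dvd_add_of {s q m : ℕ} (hs : s.Prime) (h : s ∣ q) (hm : m ≠ 0) : ¬ s ∣ q ^ m + 1 := by
  intro h1
  exact hs.one_lt.ne' (Nat.dvd_one.1 ((Nat.dvd_add_right (h.trans (dvd_pow_self q hm))).1 h1))

theorem not_dvd_Fo {s q : ℕ} (hs : s.Prime) (h : s ∣ q) (hq : 1 ≤ q) : ¬ s ∣ Fo q := by
  intro h1
  unfold Fo at h1
  rcases hs.dvd_mul.1 h1 with h1 | h1
  · exact not_dvd_sub_of hs h hq (by norm_num) h1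
  rcases hs.dvd_mul.1 h1 with h1 | h1
  · exact not_dvd_add_of hs h (by norm_num) h1
  rcases hs.dvd_mul.1 h1 with h1 | h1
  · exact not_dvd_sub_of hs h hq (by norm_num) h1
  rcases hs.dvd_mul.1 h1 with h1 | h1
  · exact not_dvd_sub_of hs h hq (by norm_num) h1
  rcases hs.dvd_mul.1 h1 with h1 | h1
  · exact not_dvd_add_of hs h (by norm_num) h1
  · exact not_dvd_sub_of hs h hq (by norm_num) h1

theorem not_dvd_gcd {s q : ℕ} (hs : s.Prime) (h : s ∣ q) : ¬ s ∣ Nat.gcd 3 (q + 1) := by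
  intro h1
  exact hs.one_lt.ne' (Nat.dvd_one.1 ((Nat.dvd_add_right h).1 (h1.trans (Nat.gcd_dvd_right _ _))))

/-- the part prime to `g Q` -/
theorem factorization_other {p g N Q F : ℕ} (h : g * N = Q * F) (hg : ¬ p ∣ g) (hQ : ¬ p ∣ Q) (hN : N ≠ 0)
    (hF : F ≠ 0) : N.factorization p = F.factorization p := by
  have hg0 : g ≠ 0 := by rintro rfl; exact hg (dvd_zero p)
  have hQ0 : Q ≠ 0 := by rintro rfl; exact hQ (dvd_zero p)
  have h1 := congrArg (fun n : ℕ => n.factorization p) h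
  rw [Nat.factorization_mul hg0 hN, Nat.factorization_mul hQ0 hF, Finsupp.add_apply, Finsupp.add_apply,
    Nat.factorization_eq_zero_of_not_dvd hg, Nat.factorization_eq_zero_of_not_dvd hQ, zero_add, zero_add] at h1
  exact h1

/-! ### the standard field automorphisms -/

theorem good_st {K : Type} [Field K] [Fintype K] (s : ℕ) [Fact s.Prime] [CharP K s] {q : ℕ} (hq : IsPrimePow q)
    (hK : Fintype.card K = q ^ 2) {p : ℕ} (hp : p.Prime) (h5 : 5 ≤ p) (hps : p ≠ s) {τ : K ≃+* K} (hτ : τ ^ p = 1)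
    (hτ1 : τ ≠ 1) (hd : p ∣ Nat.card ↥(twistedE6 K q)) : Good p s (st q τ) := by
  have hs : s.Prime := Fact.out
  have hp2 : p ≠ 2 := by omega
  have hp3 : p ≠ 3 := by omega
  obtain ⟨φ, hφ, hqq⟩ := exists_frob hq hK
  have hW : Finite CoxeterMatrix.F₄.Group :=
    Nodes.RGDFold.finite_W (hp := Nodes.RGDTwE6.hp) CoxeterMatrix.F₄.toCoxeterSystem Nodes.RGDTwE6.isCartan
      Nodes.RGDTwE6.foldData
  obtain ⟨cs, hcs⟩ : ∃ cs : CoxeterSystem CoxeterMatrix.F₄ CoxeterMatrix.F₄.Group, cs = cs :=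
    ⟨CoxeterMatrix.F₄.toCoxeterSystem, rfl⟩
  have R := Cfsg.Agent.Nodes.RGDTwE6.rgd cs hφ hqq s
  have hG1 := G1_top cs hφ hqq
  have hGG := GG_eq_top (T := T K q) hG1
  have hD := (ntau_st hφ hqq τ cs s).diag
  have hfx : HasFixRep R (st q τ) :=
    hasFixRep_of_std R (mem_X hφ hqq) (PhiE_wS hφ hqq) (st_up hφ hqq τ) (st_n hφ τ)
  -- the fixed field
  have hk := card_fixF hp hτ hτ1
  have := Fintype.ofFinite ↥(fixF τ)
  obtain ⟨q', hq', h1, h2⟩ := exists_root (n := 2) hp Nat.prime_two hp2 hq (k := Nat.card ↥(fixF τ))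
    Finite.one_lt_card (by rw [← hk, Nat.card_eq_fintype_card, hK])
  obtain ⟨j, hj⟩ := hp.odd_of_ne_two hp2
  have h3 : ∀ t : ↥(fixF τ), t ^ q = t ^ q' := by
    intro t
    have h4 : t ^ (q' ^ 2) = t := by
      rw [← h1, Nat.card_eq_fintype_card]
      exact FiniteField.pow_card t
    rw [h2, hj, pow_succ, pow_mul, pow_mul q' 2 j, pow_iter h4 j]
  have hK' : Fintype.card ↥(fixF τ) = q' ^ 2 := by rw [← Nat.card_eq_fintype_card, h1]
  have hcong := tw_congr h3
  obtain ⟨hsim, hna⟩ := Cfsg.Agent.S1070.result hq' hK'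
  have hch := charP_fixF s τ
  obtain ⟨e0⟩ := DD_equiv hφ hqq τ cs s
  have e : ↥(DD cs isCartan (X φ q) (st q τ)) ≃* ↥(twistedE6 ↥(fixF τ) q') :=
    e0.trans (MulEquiv.subgroupCongr hcong)
  -- orders
  have hcN : Nat.card ↥(DD cs isCartan (X φ q) (st q τ)) = Nat.card ↥(twistedE6 ↥(fixF τ) q') :=
    Nat.card_congr e.toEquiv
  have hoY := card_eq hq hK
  have hoN := card_eq hq' hK'
  rw [← hcN] at hoN
  have hq'2 : 2 ≤ q' := hq'.two_le
  have hU := up_Fo hp hp2 hq'2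
  obtain ⟨c, hc⟩ : ∃ c, q' = s ^ c := by
    obtain ⟨r, c, hr, hc, rfl⟩ := (isPrimePow_nat_iff _).1 hq'
    refine ⟨c, ?_⟩
    have h6 : s ∣ Fintype.card ↥(fixF τ) := (FiniteField.cast_card_eq_zero ↥(fixF τ) |> (CharP.cast_eq_zero_iff _ s _).1)
    rw [hK', ← pow_mul] at h6
    rw [(Nat.prime_dvd_prime_iff_eq hs hr).1 (hs.dvd_of_dvd_pow h6)]
  have hc0 : c ≠ 0 := by
    rintro rfl
    rw [pow_zero] at hc
    omega
  have hsq' : s ∣ q' := by rw [hc]; exact dvd_pow_self s hc0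
  have hsq : s ∣ q := by rw [h2]; exact hsq'.trans (dvd_pow_self q' hp.ne_zero)
  have hpq' : ¬ p ∣ q' := by
    intro h6
    rw [hc] at h6
    exact hps ((Nat.prime_dvd_prime_iff_eq hp hs).1 (hp.dvd_of_dvd_pow h6))
  have hpq : ¬ p ∣ q := by
    intro h6
    rw [h2] at h6
    exact hpq' (hp.dvd_of_dvd_pow h6)
  have hg : ∀ n : ℕ, ¬ p ∣ Nat.gcd 3 (n + 1) := by
    intro n h6
    exact hp3 ((Nat.prime_dvd_prime_iff_eq hp Nat.prime_three).1 (h6.trans (Nat.gcd_dvd_left _ _)))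
  have hpQ : ∀ n : ℕ, ¬ p ∣ n → ¬ p ∣ n ^ 36 := fun n hn h6 => hn (hp.dvd_of_dvd_pow h6)
  have hFq : Fo q ≠ 0 := by rw [h2]; exact hU.ne
  have hfY := factorization_other hoY (hg q) (hpQ q hpq) Nat.card_pos.ne' hFq
  have hfN := factorization_other hoN (hg q') (hpQ q' hpq') Nat.card_pos.ne' hU.ne0
  have hdF : p ∣ Fo q' := by
    apply hU.dvd
    rw [← h2]
    have h6 : p ∣ q ^ 36 * Fo q := by rw [← hoY]; exact hd.mul_left _
    exact (hp.dvd_mul.1 h6).resolve_left (hpQ q hpq)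
  have hdN : p ∣ Nat.card ↥(DD cs isCartan (X φ q) (st q τ)) := by
    have h6 : p ∣ Nat.gcd 3 (q' + 1) * Nat.card ↥(DD cs isCartan (X φ q) (st q τ)) := by
      rw [hoN]; exact hdF.mul_left _
    exact (hp.dvd_mul.1 h6).resolve_left (hg q')
  refine ⟨DD cs isCartan (X φ q) (st q τ), fun y hy => DD_le_fix hy, fun y hy => ?_, ?_, ?_, hdN, ?_, ?_, ?_⟩
  · exact Cfsg.Agent.H640.FC.Rgd.fix_le_normalizer R hGG hD hfx hy
  · exact MulEquiv.isSimpleGroup e
  · intro hcm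
    apply hna
    refine ⟨⟨fun a b => ?_⟩⟩
    apply e.symm.injective
    rw [map_mul, map_mul]
    exact hcm.is_comm.comm _ _
  · intro y hy hyc
    obtain ⟨φ', hφ', hqq'⟩ := exists_frob hq' hK'
    have key := Cfsg.Agent.H522.FamTw.Six.eq_one_of_comm hφ' hqq' (L := K) (fixF τ).subtype
      ⟨(y : GL chevE6.Idx K), Cfsg.Agent.BpExc.FamTw.Six.twisted_le_group q y.2⟩ ?_
    · exact Subtype.ext (congrArg (fun z : ↥(chevE6.group K) => (z : GL chevE6.Idx K)) key)
    intro g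
    apply Subtype.ext
    have h6 : glm chevE6 (fixF τ) (g : GL chevE6.Idx ↥(fixF τ)) ∈
        (DD cs isCartan (X φ q) (st q τ)).map (twistedE6 K q).subtype := by
      rw [map_DD hφ hqq τ cs s, hcong]
      exact ⟨g, g.2, rfl⟩
    obtain ⟨n, hn, hn'⟩ := h6
    have h7 := (Subgroup.mem_centralizer_iff.1 hyc) n hn
    have h8 := congrArg Subtype.val h7
    show (y : GL chevE6.Idx K) * glm chevE6 (fixF τ) (g : GL chevE6.Idx ↥(fixF τ)) =
      glm chevE6 (fixF τ) (g : GL chevE6.Idx ↥(fixF τ)) * (y : GL chevE6.Idx K)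
    rw [← hn']
    exact h8.symm
  · rw [hfY, hfN, h2]
    exact hU.lt hdF
  · -- the characteristic part
    have hcC : Nat.card {y : ↥(twistedE6 K q) // st q τ y = y} = Nat.card ↥(fixedSubgroup (st q τ)) := rfl
    have hidx := ((DD cs isCartan (X φ q) (st q τ)).subgroupOf (fixedSubgroup (st q τ))).card_mul_index
    have hcs' : Nat.card ↥((DD cs isCartan (X φ q) (st q τ)).subgroupOf (fixedSubgroup (st q τ))) =
        Nat.card ↥(DD cs isCartan (X φ q) (st q τ)) :=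
      Nat.card_congr (Subgroup.subgroupOfEquivOfLe DD_le_fix).toEquiv
    have hni := Cfsg.Agent.H640.FC.Rgd.not_dvd_index R hGG hD hfx
    have hN36 := factorization_char (s := s) (a := c) (m := 36) hs (by rw [← hc]; exact hoN) (not_dvd_gcd hs hsq')
      (not_dvd_Fo hs hsq' (by omega)) Nat.card_pos.ne'
    have hY36 := factorization_char (s := s) (a := c * p) (m := 36) hs
      (by rw [pow_mul, ← hc, ← h2]; exact hoY) (not_dvd_gcd hs hsq) (not_dvd_Fo hs hsq hq.pos) Nat.card_pos.ne'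
    rw [hcC, ← hidx, hcs', Nat.factorization_mul Nat.card_pos.ne' Subgroup.index_ne_zero_of_finite, Finsupp.add_apply,
      Nat.factorization_eq_zero_of_not_dvd hni, add_zero, hN36, hY36]
    ring

end Cfsg.Agent.H640.FC.TwSix
end
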