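import Mathlib
import Cfsg.Agent.H640.FC.TwSix
import Cfsg.Prelude.Def_KGroupFacts
import Cfsg.Agent.H28.ExcRowTw
import Cfsg.Agent.H640.FC.TwFour
import Cfsg.Agent.H967.FaTw
import Cfsg.Prelude.Def_LieTypeChar
import Cfsg.Agent.FastGrp
import Cfsg.Agent.Prune
set_option linter.all false
prune_inst 0x7f00000000000000000000000000000000000000000000000000000000000000000000000000000000000000000000000000000000000000000000000000000000000000000000000000000000000000003fffffffffffffffffffffffffffbeffbdffffffff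
open scoped Cfsg.Agent.FastGrp

-- part: H640/FC/Cover
section
/-!
# Automorphisms of order `p` in the cosets of a complement-like subgroup

`exists_coset` : `Φ : A →* Aut(Y)` with `Φ σ` outer for `σ ≠ 1`, `|Out(Y)| = c |A|`, `p ∤ c`: every outer automorphism of
order `p` is, up to conjugacy in `Aut(Y)`, in a coset `Inn(Y) Φ(σ)`, `σ ^ p = 1`, `σ ≠ 1`.
-/

set_option autoImplicit false

namespace Cfsg.Agent.H640.FC

open Subgroup

/-- an element of order `p` is conjugate into a subgroup of index prime to `p` -/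
theorem exists_conj_mem {O : Type*} [Group O] [Finite O] {p : ℕ} [hp : Fact p.Prime] (B : Subgroup O)
    (hB : ¬ p ∣ B.index) {x : O} (hx : x ^ p = 1) : ∃ e, e⁻¹ * x * e ∈ B := by
  have hG : IsPGroup p ↥(zpowers x) := by
    rw [IsPGroup.iff_orderOf]
    rintro ⟨z, hz⟩
    have h1 : orderOf z ∣ p := (orderOf_dvd_of_mem_zpowers hz).trans (orderOf_dvd_of_pow_eq_one hx)
    rw [Subgroup.orderOf_mk]
    rcases (Nat.dvd_prime hp.out).1 h1 with h2 | h2
    · exact ⟨0, by rw [h2, pow_zero]⟩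
    · exact ⟨1, by rw [h2, pow_one]⟩
  obtain ⟨a, ha⟩ := hG.nonempty_fixed_point_of_prime_not_dvd_card (O ⧸ B) hB
  obtain ⟨e, rfl⟩ := QuotientGroup.mk_surjective a
  refine ⟨e, ?_⟩
  have h1 := ha ⟨x, mem_zpowers x⟩
  have h2 : (QuotientGroup.mk (x * e) : O ⧸ B) = QuotientGroup.mk e := h1
  have h3 := QuotientGroup.eq.1 h2.symm
  rwa [← mul_assoc] at h3

theorem exists_coset {Y A : Type*} [Group Y] [Finite Y] [Group A] [Finite A] (Φ : A →* MulAut Y)
    (hinn : ∀ σ, σ ≠ 1 → Φ σ ∉ Cfsg.Inn Y) {c p : ℕ} [hp : Fact p.Prime] (hc : Nat.card (Cfsg.Out Y) = c * Nat.card A)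
    (hpc : ¬ p ∣ c) {x : MulAut Y} (hx : x ^ p = 1) (hout : ¬ ∃ g, x = MulAut.conj g) :
    ∃ (e : MulAut Y) (g : Y) (σ : A), σ ^ p = 1 ∧ σ ≠ 1 ∧ x = e * (MulAut.conj g * Φ σ) * e⁻¹ := by
  have hfin : Finite (MulAut Y) := Finite.of_injective (fun f : MulAut Y => (f : Y → Y)) DFunLike.coe_injective
  have hI : (Cfsg.Inn Y).Normal := inferInstance
  let π : MulAut Y →* MulAut Y ⧸ Cfsg.Inn Y := QuotientGroup.mk' (Cfsg.Inn Y)
  let ψ : A →* MulAut Y ⧸ Cfsg.Inn Y := π.comp Φ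
  have hψ : Function.Injective ψ := by
    rw [injective_iff_map_eq_one]
    intro σ hσ
    by_contra h1
    exact hinn σ h1 ((QuotientGroup.eq_one_iff _).1 hσ)
  have hidx : ¬ p ∣ ψ.range.index := by
    have h1 := ψ.range.card_mul_index
    have h2 : Nat.card ↥ψ.range = Nat.card A := (Nat.card_congr (MonoidHom.ofInjective hψ).toEquiv).symm
    have h3 : Nat.card (MulAut Y ⧸ Cfsg.Inn Y) = c * Nat.card A := hc
    rw [h2, h3] at h1
    have h4 : ψ.range.index = c := by
      have h5 : 0 < Nat.card A := Nat.card_pos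
      rw [mul_comm c] at h1
      exact Nat.eq_of_mul_eq_mul_left h5 h1
    rwa [h4]
  have hx' : (π x) ^ p = 1 := by rw [← map_pow, hx, map_one]
  obtain ⟨e', he'⟩ := exists_conj_mem ψ.range hidx hx'
  obtain ⟨e, rfl⟩ := QuotientGroup.mk'_surjective (Cfsg.Inn Y) e'
  obtain ⟨σ, hσ⟩ := he'
  change ψ σ = (π e)⁻¹ * π x * π e at hσ
  have h1 : π (e⁻¹ * x * e * (Φ σ)⁻¹) = 1 := by
    rw [map_mul, map_mul, map_mul, map_inv, map_inv]
    have : ψ σ = π (Φ σ) := rfl
    rw [← this, hσ]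
    group
  obtain ⟨g, hg⟩ := (QuotientGroup.eq_one_iff _).1 h1
  refine ⟨e, g, σ, ?_, ?_, ?_⟩
  · apply hψ
    rw [map_pow, hσ, map_one]
    have e2 : (π e)⁻¹ * π x * π e = MulAut.conj (π e)⁻¹ (π x) := by simp only [_root_.map_inv, _root_.MulAut.inv_apply, _root_.MulAut.conj_symm_apply]
    show ((π e)⁻¹ * π x * π e) ^ p = 1
    rw [e2, ← map_pow, hx', map_one]
  · rintro rfl
    apply hout
    rw [map_one, inv_one, mul_one] at hg
    refine ⟨e g, ?_⟩
    rw [← aut_conj]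
    change MulAut.conj g = _ at hg
    rw [hg]
    group
  · change MulAut.conj g = _ at hg
    rw [hg]
    group

end Cfsg.Agent.H640.FC
end

-- part: H640/FC/Three
section
/-!
# The Sylow `3`-subgroups of `²E₆(q)` and `³D₄(q)` are not cyclic (`3 ∤ q`)

* `mem_zpowers_of_cyclic` : commuting elements of order `p` of a group with cyclic Sylow `p`-subgroups;
* `not_cyclic_three` : an element of order `3` commuting with a root `SL₂`;
* `not_cyclic_E6`, `not_cyclic_D4`.
-/

set_option autoImplicit false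
set_option linter.unusedSectionVars false
set_option maxHeartbeats 400000

namespace Cfsg.Agent.H640.FC.Three

open CoxeterSystem Cfsg.Agent.ChevalleyStructure.CoxeterGeom Cfsg.Agent.Tits.Roots Cfsg.Agent.Tits.Core
  Cfsg.Agent.Nodes.Reps Cfsg.Agent.Nodes.BNOf Cfsg.Agent.Nodes.Bruhat
  Cfsg.Agent.Nodes.OppDec Cfsg.Agent.Nodes.RGDChev Cfsg.Agent.Nodes.RGDTwGen
  Cfsg.Agent.Nodes.RGDFold Cfsg.Agent.Nodes.RGDFoldSL
  Cfsg.Agent.KFacts.RgdAut Cfsg.Agent.KFacts.RgdDiag Cfsg.Agent.KFacts.RgdRigid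
  Cfsg.Agent.KFacts.RgdField
open Cfsg.Lie Cfsg.Agent.ChevalleyStructure Cfsg.Agent.ChevalleyStructure.Elts Cfsg.Agent.ChevalleyStructure.TwistedU
open Cfsg.Agent.H28.SLTwoRow Cfsg.Agent.H28.FrameRow Cfsg.Agent.H28.ExcRow Cfsg.Agent.H28.ExcRowTw
open Cfsg.Agent.ChevalleyStructure.SL2Hom (up lo)
open Subgroup (mem_centralizer_singleton_iff mem_sup_left mem_sup_right mem_inf mem_subgroupOf centralizer coe_mul
  zpowers mem_zpowers)

universe u v

/-! ### cyclic Sylow subgroups -/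

theorem isPGroup_zpowers {p : ℕ} [hp : Fact p.Prime] {L : Type*} [Group L] {x : L} (hx : orderOf x = p) :
    IsPGroup p ↥(zpowers x) := by
  rw [IsPGroup.iff_orderOf]
  rintro ⟨z, hz⟩
  have h1 : orderOf z ∣ p := by rw [← hx]; exact orderOf_dvd_of_mem_zpowers hz
  rw [Subgroup.orderOf_mk]
  rcases (Nat.dvd_prime hp.out).1 h1 with h2 | h2
  · exact ⟨0, by rw [h2, pow_zero]⟩
  · exact ⟨1, by rw [h2, pow_one]⟩

/-- elements of order `p` of a cyclic group -/
theorem mem_zpowers_of_isCyclic {p : ℕ} [hp : Fact p.Prime] {P : Type*} [Group P] [Finite P] [IsCyclic P] {x y : P}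
    (hx : orderOf x = p) (hy : orderOf y = p) : y ∈ zpowers x := by
  classical
  have := Fintype.ofFinite P
  by_contra h
  have h1 := IsCyclic.card_pow_eq_one_le (α := P) hp.out.pos
  have h2 : insert y ((zpowers x : Set P).toFinset) ⊆ Finset.univ.filter fun a : P => a ^ p = 1 := by
    intro z hz
    rw [Finset.mem_insert, Set.mem_toFinset] at hz
    rw [Finset.mem_filter]
    refine ⟨Finset.mem_univ _, ?_⟩
    rcases hz with rfl | hz
    · rw [← hy, pow_orderOf_eq_one]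
    · have h3 : orderOf z ∣ p := by rw [← hx]; exact orderOf_dvd_of_mem_zpowers hz
      exact orderOf_dvd_iff_pow_eq_one.1 h3
  have h3 := Finset.card_le_card h2
  rw [Finset.card_insert_of_notMem (by rw [Set.mem_toFinset]; exact h)] at h3
  have h4 : ((zpowers x : Set P).toFinset).card = p := by
    rw [Set.toFinset_card, ← Nat.card_eq_fintype_card]
    exact (Nat.card_zpowers x).trans hx
  omega

/-- commuting elements of order `p` of a group with cyclic Sylow `p`-subgroups -/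
theorem mem_zpowers_of_cyclic {p : ℕ} [hp : Fact p.Prime] {L : Type*} [Group L] [Finite L]
    (hcyc : ∀ P : Sylow p L, IsCyclic ↥(P : Subgroup L)) {x y : L} (hx : orderOf x = p) (hy : orderOf y = p)
    (hc : x * y = y * x) : y ∈ zpowers x := by
  have h1 : IsPGroup p ↥(zpowers y ⊔ zpowers x) := by
    refine (isPGroup_zpowers hy).to_sup_of_normal_right' (isPGroup_zpowers hx) ?_
    rw [Subgroup.zpowers_le]
    have h2 : y ∈ centralizer (zpowers x : Set L) := by
      rw [Subgroup.mem_centralizer_iff]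
      rintro _ ⟨k, rfl⟩
      exact ((show Commute x y from hc).zpow_left k).eq
    exact Subgroup.centralizer_le_normalizer _ h2
  obtain ⟨P, hP⟩ := h1.exists_le_sylow
  have := hcyc P
  have hxP : x ∈ (P : Subgroup L) := hP (mem_sup_right (mem_zpowers x))
  have hyP : y ∈ (P : Subgroup L) := hP (mem_sup_left (mem_zpowers y))
  have h2 := mem_zpowers_of_isCyclic (p := p) (P := ↥(P : Subgroup L)) (x := ⟨x, hxP⟩) (y := ⟨y, hyP⟩)
    (by rw [Subgroup.orderOf_mk, hx]) (by rw [Subgroup.orderOf_mk, hy])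
  obtain ⟨k, hk⟩ := h2
  refine ⟨k, ?_⟩
  have := congrArg Subtype.val hk
  simpa using this

/-! ### an element of order three commuting with a root `SL₂` -/

theorem g3_up {F : Type*} [Field F] (a : F) : g3 F * up a = lo (-a) * g3 F := by
  apply Subtype.ext
  rw [Matrix.SpecialLinearGroup.coe_mul, Matrix.SpecialLinearGroup.coe_mul]
  ext i j
  (revert i j; simp only [g3, up, lo, Matrix.mul_apply, Fin.sum_univ_two, _root_.Fin.forall_fin_succ, _root_.Matrix.of_apply, _root_.Matrix.cons_val', _root_.Matrix.cons_val_fin_one, Fin.isValue, _root_.Matrix.cons_val_zero, _root_.Matrix.cons_val_one, _root_.mul_one, _root_.MulZeroClass.mul_zero, _root_.add_zero, _root_.zero_add, _root_.Matrix.cons_val_succ, _root_.mul_neg, _root_.forall_const, _root_.true_and, _root_.MulZeroClass.zero_mul, _root_.neg_zero, _root_.one_mul, _root_.neg_neg, _root_.implies_true, _root_.and_self])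

theorem not_cyclic_three {L : Type*} [Group L] [Finite L] {r : ℕ} {T P Q : Subgroup L} {F : Type*} [Field F]
    {Φ : SL2 F →* L} (N : Rk T P Q Φ) (hP : IsPGroup r P) (hPQ : ¬ IsPGroup r (P ⊔ Q : Subgroup L)) (hQ : IsPGroup r Q)
    {x : L} (hx : orderOf x = 3) (hc : ∀ g, x * Φ g = Φ g * x) :
    ¬ ∀ S : Sylow 3 L, IsCyclic ↥(S : Subgroup L) := by
  intro hcyc
  have : Fact (Nat.Prime 3) := ⟨Nat.prime_three⟩
  have h1 := mem_zpowers_of_cyclic hcyc hx (orderOf_g3 N hP hPQ) (hc _)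
  obtain ⟨k, hk⟩ := h1
  change x ^ k = _ at hk
  apply hPQ
  have h2 : P ≤ Q := by
    intro y hy
    obtain ⟨a, rfl⟩ := (N.pos y).1 hy
    have h3 : Φ (g3 F) * Φ (up a) = Φ (up a) * Φ (g3 F) := by
      rw [← hk]
      exact ((show Commute x (Φ (up a)) from hc _).zpow_left k).eq
    rw [← map_mul, g3_up, map_mul] at h3
    rw [← mul_right_cancel h3]
    exact (N.neg _).2 ⟨_, rfl⟩
  rw [sup_eq_right.2 h2]
  exact hQ

/-! ### orthogonal nodes -/

section Gen

variable {I W : Type*} [Fintype I] [DecidableEq I] [Group W] {L : Type v} [Group L] {M : CoxeterMatrix I}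
  {cs : CoxeterSystem M W} {A : I → I → ℤ} {hA : IsCartan M A} {r : ℕ} {T : Subgroup L} {n : I → L}
  {X : (I → ℤ) → Subgroup L} (R : RGD cs hA r T n X)

theorem not_btwn_nodes [Finite W] {i j : I} (hij : i ≠ j) (h2 : M i j = 2) (d c : ℤ) (hd : d = 1 ∨ d = -1) (hc : c = 1 ∨ c = -1)
    (z : I → ℤ) : ¬ Btwn cs hA (d • sr i) (c • sr j) z := by
  rintro ⟨hz, m, a, b, hm, ha, hb, he⟩
  have h3 : ∀ k, m * z k = a * (d * sr i k) + b * (c * sr j k) := fun k => by
    have := congrFun he k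
    simpa only [_root_.Pi.smul_apply, _root_.Int.zsmul_eq_mul, _root_.zsmul_eq_mul, _root_.Pi.add_apply, _root_.Pi.mul_apply, _root_.Pi.intCast_apply, _root_.Int.cast_eq] using this
  have h4 : Nodes.Comb.Supp i j z := by
    intro k hki hkj
    have h5 := h3 k
    rw [sr_ne hki, sr_ne hkj, mul_zero, mul_zero, mul_zero, mul_zero, add_zero] at h5
    rcases mul_eq_zero.1 h5 with h6 | h6
    · omega
    · exact h6
  obtain ⟨k, hk, h5⟩ := Nodes.ClsPair.eq_of_supp_two hij h2 hz h4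
  have h6 := h3 i
  have h7 := h3 j
  rw [sr_self, sr_ne hij, mul_zero, mul_zero, add_zero, mul_one] at h6
  rw [sr_self, sr_ne hij.symm, mul_zero, mul_zero, zero_add, mul_one] at h7
  have h8 : z i ≠ 0 := by
    intro h9
    rw [h9, mul_zero] at h6
    rcases hd with rfl | rfl <;> omega
  have h9 : z j ≠ 0 := by
    intro h9
    rw [h9, mul_zero] at h7
    rcases hc with rfl | rfl <;> omega
  rcases hk with rfl | rfl <;> rcases h5 with h5 | h5
  · exact h9 (by rw [h5, sr_ne hij.symm])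
  · exact h9 (by rw [h5, Pi.neg_apply, sr_ne hij.symm, neg_zero])
  · exact h8 (by rw [h5, sr_ne hij])
  · exact h8 (by rw [h5, Pi.neg_apply, sr_ne hij, neg_zero])

include R in
/-- the groups of two orthogonal nodes commute -/
theorem comm_nodes [Finite W] {i j : I} (hij : i ≠ j) (h2 : M i j = 2) {x y : L} (hx : x ∈ X (sr i) ⊔ X (-sr i))
    (hy : y ∈ X (sr j) ⊔ X (-sr j)) : x * y = y * x := by
  have hne : ∀ d c : ℤ, (d = 1 ∨ d = -1) → (c = 1 ∨ c = -1) → d • sr i ≠ (c • sr j : I → ℤ) := by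
    intro d c hd hc h1
    have h3 := congrFun h1 i
    rw [Pi.smul_apply, Pi.smul_apply, sr_self, sr_ne hij, smul_zero, smul_eq_mul, mul_one] at h3
    omega
  have hroot : ∀ (k : I) (d : ℤ), (d = 1 ∨ d = -1) → IsRoot cs hA (d • sr k) := by
    rintro k d (rfl | rfl)
    · rw [one_smul]; exact isRoot_sr cs hA k
    · rw [neg_smul, one_smul]; exact (isRoot_sr cs hA k).neg
  have key : ∀ d c : ℤ, (d = 1 ∨ d = -1) → (c = 1 ∨ c = -1) → ∀ u ∈ X (d • sr i), ∀ w ∈ X (c • sr j), u * w = w * u := by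
    intro d c hd hc u hu w hw
    refine KFacts.RgdSL.comm_of_not_btwn R (hroot i d hd) (hroot j c hc) (hne d c hd hc) ?_
      (not_btwn_nodes hij h2 d c hd hc) hu hw
    have := hne d (-c) hd (by rcases hc with rfl | rfl <;> simp)
    rwa [neg_smul] at this
  have k1 : ∀ u ∈ X (sr i) ⊔ X (-sr i), ∀ w ∈ X (sr j), u * w = w * u := by
    intro u hu w hw
    have h3 : X (sr i) ⊔ X (-sr i) ≤ centralizer ({w} : Set L) := by
      refine sup_le (fun a ha => ?_) (fun a ha => ?_)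
      · rw [mem_centralizer_singleton_iff]
        exact (key 1 1 (Or.inl rfl) (Or.inl rfl) a (by rwa [one_smul]) w (by rwa [one_smul]))
      · rw [mem_centralizer_singleton_iff]
        exact (key (-1) 1 (Or.inr rfl) (Or.inl rfl) a (by rwa [neg_smul, one_smul]) w (by rwa [one_smul]))
    exact mem_centralizer_singleton_iff.1 (h3 hu)
  have k2 : ∀ u ∈ X (sr i) ⊔ X (-sr i), ∀ w ∈ X (-sr j), u * w = w * u := by
    intro u hu w hw
    have h3 : X (sr i) ⊔ X (-sr i) ≤ centralizer ({w} : Set L) := by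
      refine sup_le (fun a ha => ?_) (fun a ha => ?_)
      · rw [mem_centralizer_singleton_iff]
        exact (key 1 (-1) (Or.inl rfl) (Or.inr rfl) a (by rwa [one_smul]) w (by rwa [neg_smul, one_smul]))
      · rw [mem_centralizer_singleton_iff]
        exact (key (-1) (-1) (Or.inr rfl) (Or.inr rfl) a (by rwa [neg_smul, one_smul]) w (by rwa [neg_smul, one_smul]))
    exact mem_centralizer_singleton_iff.1 (h3 hu)
  have h3 : X (sr j) ⊔ X (-sr j) ≤ centralizer ({x} : Set L) := by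
    refine sup_le (fun a ha => ?_) (fun a ha => ?_)
    · rw [mem_centralizer_singleton_iff]; exact (k1 x hx a ha).symm
    · rw [mem_centralizer_singleton_iff]; exact (k2 x hx a ha).symm
  exact (mem_centralizer_singleton_iff.1 (h3 hy)).symm

end Gen

section E6

open Cfsg.Agent.Nodes.RGDTwE6 Cfsg.Agent.Nodes.RGDTwNode.E6
open Cfsg.Agent.KFacts.TwESix.Out Cfsg.Agent.KFacts.TwESix.OutTwo

theorem not_cyclic_E6 {K : Type u} [Field K] [Fintype K] {q : ℕ} (hq : IsPrimePow q) (hK : Fintype.card K = q ^ 2)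
    (r : ℕ) [Fact r.Prime] [CharP K r] : ¬ ∀ S : Sylow 3 ↥(twistedE6 K q), IsCyclic ↥(S : Subgroup ↥(twistedE6 K q)) := by
  have := finite_F4
  obtain ⟨φ, hφ, hqq⟩ := TwE6Basic.exists_frob hq hK
  have R := Cfsg.Agent.Nodes.RGDTwE6.rgd CoxeterMatrix.F₄.toCoxeterSystem hφ hqq r
  have N : ∀ i, Rk (T K q) (X φ q (sr i)) (X φ q (-sr i)) (PhiE hφ hqq i) := fun i =>
    rk_of R (mem_X hφ hqq i) (PhiE_wS hφ hqq i) (coordE hφ hqq i)
  refine not_cyclic_three (r := r) (N 2) (R.pgrp 2) (R.notp 2) (R.pgrp' (isRoot_sr _ _ 2).neg)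
    (orderOf_g3 (N 0) (R.pgrp 0) (R.notp 0)) fun g => ?_
  refine comm_nodes R (i := 0) (j := 2) (by decide) (by decide) ?_ ?_
  · rw [← (N 0).range]; exact ⟨_, rfl⟩
  · rw [← (N 2).range]; exact ⟨_, rfl⟩

end E6

section D4

open Cfsg.Agent.Nodes.RGDTwD4 Cfsg.Agent.Nodes.RGDTwNode.D4
open Cfsg.Agent.ChevalleyStructure.D4Fixed (sig)
open Cfsg.Agent.KFacts.TwDFour.Out

theorem comm_tab : ∀ k ∈ [0, 23], ∀ r ∈ [18, 13, 12, 5, 10, 11], r < chevD4.nroots ∧ k ≠ r ∧ k ≠ chevD4.neg r ∧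
    chevD4.commTerms r k = [] := by decide +kernel

/-- The groups of the highest root commute with the groups of the short simple root. -/
theorem commute_top' {K : Type u} [Field K] {g : GL chevD4.Idx K} {S : Set ℕ} (hS : ∀ r ∈ S, r ∈ [18, 13, 12, 5, 10, 11])
    (hg : g ∈ rspan (xG Cfsg.Agent.Nodes.RGDTwD4.hp.inList) S) {k : ℕ} (hk : k ∈ [0, 23]) {s : GL chevD4.Idx K}
    (hs : s ∈ rspan (xG Cfsg.Agent.Nodes.RGDTwD4.hp.inList) {m | m ∈ [k]}) : g * s = s * g := by
  have hk' : k < chevD4.nroots := by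
    have : ∀ k ∈ [0, 23], k < chevD4.nroots := by decide +kernel
    exact this k hk
  have h1 : ∀ r ∈ S, ∀ t u : K, Commute (xG Cfsg.Agent.Nodes.RGDTwD4.hp.inList r t)
      (xG Cfsg.Agent.Nodes.RGDTwD4.hp.inList k u) := by
    intro r hr t u
    obtain ⟨h2, h3, h4, h5⟩ := comm_tab k hk r (hS r hr)
    exact commute_of_nil Cfsg.Agent.Nodes.RGDTwD4.hp h2 hk' h3 h4 h5 t u
  have h2 : rspan (xG (F := K) Cfsg.Agent.Nodes.RGDTwD4.hp.inList) {m | m ∈ [k]} ≤ centralizer {g} := by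
    refine rspan_le _ fun m hm u => ?_
    rw [Set.mem_ofPred_eq, List.mem_singleton] at hm
    subst hm
    rw [mem_centralizer_singleton_iff]
    have h3 : rspan (xG (F := K) Cfsg.Agent.Nodes.RGDTwD4.hp.inList) S ≤
        centralizer {xG Cfsg.Agent.Nodes.RGDTwD4.hp.inList m u} := by
      refine rspan_le _ fun r hr t => ?_
      rw [mem_centralizer_singleton_iff]
      exact h1 r hr t u
    exact (mem_centralizer_singleton_iff.1 (h3 hg)).symm
  exact (mem_centralizer_singleton_iff.1 (h2 hs)).symm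

theorem not_cyclic_D4 {K : Type u} [Field K] [Fintype K] {q : ℕ} (hq : IsPrimePow q) (hK : Fintype.card K = q ^ 3)
    (r : ℕ) [Fact r.Prime] [CharP K r] : ¬ ∀ S : Sylow 3 ↥(twistedD4 K q), IsCyclic ↥(S : Subgroup ↥(twistedD4 K q)) := by
  have := finite_G2
  obtain ⟨φ, hφ⟩ := D4Fixed.exists_frob hq hK
  have R := Cfsg.Agent.Nodes.RGDTwD4.rgd CoxeterMatrix.G₂.toCoxeterSystem hK hφ r
  have N : ∀ i, Rk (T K q) (X φ q (sr i)) (X φ q (-sr i)) (PhiD hφ hK i) := fun i =>
    rk_of R (mem_X hφ hK i) (PhiD_wS hφ hK i) (coordD hφ hK i)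
  have hlt : ∀ k ∈ [0, 23], ∀ m ∈ [k], m < chevD4.nroots := by decide +kernel
  have hlt1 : ∀ k ∈ [18, 13, 12], k < chevD4.nroots := by decide +kernel
  have hlt2 : ∀ k ∈ [5, 10, 11], k < chevD4.nroots := by decide +kernel
  have hcls : ∀ k ∈ [0, 23], ∀ m < chevD4.nroots, (V chevD4 J m = V chevD4 J k ↔ m ∈ [k]) := by decide +kernel
  have hneg : V chevD4 J 0 = -V chevD4 J 23 := by decide +kernel
  have hroot : IsRoot CoxeterMatrix.G₂.toCoxeterSystem isCartan (V chevD4 J 23) := by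
    rw [Cfsg.Agent.Nodes.RGDTwD4.foldData.isRoot_iff Cfsg.Agent.Nodes.RGDTwD4.hp.checked
      (fun i r hr => wp_lt Cfsg.Agent.Nodes.RGDTwD4.hp _ hr)]
    exact ⟨23, by decide +kernel, rfl⟩
  -- the element
  obtain ⟨w, i, hw⟩ := hroot
  obtain ⟨k, hk⟩ := exists_rp (cs := CoxeterMatrix.G₂.toCoxeterSystem) R.nsys w
  set x : ↥(twistedD4 K q) := k * PhiD hφ hK i (g3 _) * k⁻¹ with hx
  have hxo : orderOf x = 3 := by
    have h1 : x = MulAut.conj k (PhiD hφ hK i (g3 _)) := rfl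
    rw [h1, MulEquiv.orderOf_eq]
    exact orderOf_g3 (N i) (R.pgrp i) (R.notp i)
  have hx23 : x ∈ X φ q (V chevD4 J 23) ⊔ X φ q (-V chevD4 J 23) := by
    have h1 : PhiD hφ hK i (g3 _) ∈ X φ q (sr i) ⊔ X φ q (-sr i) := by rw [← (N i).range]; exact ⟨_, rfl⟩
    have h2 : X φ q (sr i) ⊔ X φ q (-sr i) ≤
        (X φ q (V chevD4 J 23) ⊔ X φ q (-V chevD4 J 23)).comap (MulAut.conj k).toMonoidHom := by
      refine sup_le (fun y hy => ?_) (fun y hy => ?_)
      · refine mem_sup_left ?_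
        rw [hw]
        exact R.conj_mem hk (isRoot_sr _ _ i) hy
      · refine mem_sup_right ?_
        rw [hw, ← map_neg]
        exact R.conj_mem hk (isRoot_sr _ _ i).neg hy
    exact h2 h1
  have hspan : ∀ m ∈ [0, 23], ∀ s ∈ X φ q (V chevD4 J m),
      (s : GL chevD4.Idx K) ∈ rspan (xG Cfsg.Agent.Nodes.RGDTwD4.hp.inList) {l | l ∈ [m]} := by
    intro m hm s hs
    have h3 : (s : GL chevD4.Idx K) ∈ Nodes.RGDFold.R chevD4 Cfsg.Agent.Nodes.RGDTwD4.hp K J (sig φ)
        (V chevD4 J m) := hs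
    rw [R_eq (hcls m hm) (hlt m hm)] at h3
    exact h3.1
  have hcomm : ∀ m ∈ [0, 23], ∀ s ∈ X φ q (V chevD4 J m), (PhiD hφ hK 1).range ≤ centralizer ({s} : Set ↥(twistedD4 K q)) := by
    intro m hm s hs
    have hs' := hspan m hm s hs
    refine range_le (fun a => ?_) (fun a => ?_)
    · rw [mem_centralizer_singleton_iff]
      apply Subtype.ext
      have h5 : (PhiD hφ hK 1 (up a) : ↥(twistedD4 K q)) ∈ X φ q (sr 1) := ((N 1).pos _).2 ⟨a, rfl⟩
      have h6 : ((PhiD hφ hK 1 (up a) : ↥(twistedD4 K q)) : GL chevD4.Idx K) ∈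
          Nodes.RGDFold.R chevD4 Cfsg.Agent.Nodes.RGDTwD4.hp K J (sig φ) (sr 1) := h5
      rw [R_eq cls1 hlt1] at h6
      exact commute_top' (S := {k | k ∈ [18, 13, 12]}) (fun r hr => by
        simp only [Set.mem_ofPred_eq] at hr
        simp only [List.mem_cons, List.not_mem_nil, or_false] at hr ⊢
        (clear * - hr; tauto)) h6.1 hm hs'
    · rw [mem_centralizer_singleton_iff]
      apply Subtype.ext
      have h5 : (PhiD hφ hK 1 (lo a) : ↥(twistedD4 K q)) ∈ X φ q (-sr 1) := ((N 1).neg _).2 ⟨a, rfl⟩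
      have h6 : ((PhiD hφ hK 1 (lo a) : ↥(twistedD4 K q)) : GL chevD4.Idx K) ∈
          Nodes.RGDFold.R chevD4 Cfsg.Agent.Nodes.RGDTwD4.hp K J (sig φ) (-sr 1) := h5
      rw [R_eq cls1' hlt2] at h6
      exact commute_top' (S := {k | k ∈ [5, 10, 11]}) (fun r hr => by
        simp only [Set.mem_ofPred_eq] at hr
        simp only [List.mem_cons, List.not_mem_nil, or_false] at hr ⊢
        (clear * - hr; tauto)) h6.1 hm hs'
  refine not_cyclic_three (r := r) (N 1) (R.pgrp 1) (R.notp 1) (R.pgrp' (isRoot_sr _ _ 1).neg) hxo fun g => ?_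
  have h7 : X φ q (V chevD4 J 23) ⊔ X φ q (-V chevD4 J 23) ≤
      centralizer ({PhiD hφ hK 1 g} : Set ↥(twistedD4 K q)) := by
    rw [← hneg]
    refine sup_le (fun s hs => ?_) (fun s hs => ?_)
    · rw [mem_centralizer_singleton_iff]
      exact (mem_centralizer_singleton_iff.1 (hcomm 23 (by simp) s hs ⟨g, rfl⟩)).symm
    · rw [mem_centralizer_singleton_iff]
      exact (mem_centralizer_singleton_iff.1 (hcomm 0 (by simp) s hs ⟨g, rfl⟩)).symm
  exact mem_centralizer_singleton_iff.1 (h7 hx23)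

end D4

end Cfsg.Agent.H640.FC.Three
end

-- part: H640/FC/Tw
section
/-!
# `FieldCent` for `²E₆(q)` and `³D₄(q)` (task 704 of hub H9, S2120)

`fieldCent_tw` : `FieldCent p s X` for `X ≅ ²E₆(q)` or `³D₄(q)` of characteristic `s`, `p ≠ 2`, `p ≠ s`.
-/

set_option autoImplicit false

namespace Cfsg.Agent.H640.FC

open Cfsg Subgroup Cfsg.Agent.H818.StrP Cfsg.Lie
open Cfsg.Agent.H967.CopMat Cfsg.Agent.H967.CopTw
open Cfsg.Agent.H967.CopSz (charP_of_card)

theorem card_ringAut_pos {K : Type*} [Field K] [Finite K] : Finite (K ≃+* K) :=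
  Finite.of_injective (fun f : K ≃+* K => (f : K → K)) DFunLike.coe_injective

end Cfsg.Agent.H640.FC
end
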